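import Cfsg.Agent.Lib.Perm.BinaryOneClass.Frame
import Cfsg.Agent.Lib.KnownB.SuzukiFacts

/-!
# The frame of the Suzuki groups

The centre `Z` of the unitriangular group and its opposite generate; an element of order four is
the product of an involution and a prescribed element of order four.
-/

set_option autoImplicit false
set_option linter.unusedSectionVars false

namespace CfsgLib.Perm.BinaryOneClass.SzModel

open Cfsg.Lie CfsgLib.KnownB.SzElem CfsgLib.KnownB.Suzuki

variable {F : Type*} [Field F] {e : ℕ} (he : Twist F e)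

/-- The torus. -/
def torus : Subgroup (Sz F e) where
  carrier := Set.range (H e he)
  one_mem' := ⟨1, H_one he⟩
  mul_mem' := by
    rintro _ _ ⟨s, rfl⟩ ⟨t, rfl⟩
    exact ⟨s * t, (H_mul he s t).symm⟩
  inv_mem' := by
    rintro _ ⟨s, rfl⟩
    exact ⟨s⁻¹, (H_inv he s).symm⟩

include he in
theorem zero_pow_e : (0 : F) ^ e = 0 := zero_pow (Nat.ne_zero_of_lt he.one_lt)

theorem P_zero_mul (b c : F) : P he 0 b * P he 0 c = P he 0 (b + c) := by
  rw [P_mul, add_zero, zero_pow_e he, zero_mul, add_zero]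

theorem P_zero_sq (b : F) : P he 0 b * P he 0 b = 1 := by
  rw [P_zero_mul, ← P_zero he]
  congr 1
  linear_combination he.two * b

theorem P_zero_inv (b : F) : (P he 0 b)⁻¹ = P he 0 b :=
  inv_eq_of_mul_eq_one_right (P_zero_sq he b)

theorem P_eq_one {a b : F} (h : P he a b = 1) : a = 0 ∧ b = 0 :=
  P_injective he (h.trans (P_zero he).symm)

/-- The centre of the unitriangular group. -/
def zSub : Subgroup (Sz F e) where
  carrier := Set.range (P he 0)
  one_mem' := ⟨0, P_zero he⟩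
  mul_mem' := by
    rintro _ _ ⟨s, rfl⟩ ⟨t, rfl⟩
    exact ⟨s + t, (P_zero_mul he s t).symm⟩
  inv_mem' := by
    rintro _ ⟨s, rfl⟩
    exact ⟨s, (P_zero_inv he s).symm⟩

theorem mem_zSub_iff {a b : F} : P he a b ∈ zSub he ↔ a = 0 :=
  ⟨fun ⟨_, h⟩ => (P_injective he h).1.symm, fun h => ⟨b, by rw [h]⟩⟩

/-- The opposite root element. -/
noncomputable def low (x : F) : Sz F e := W he * P he 0 x * W he

theorem low_notMem {x : F} (hx : x ≠ 0) : low he x ∉ borel F e := fun h => by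
  have := (P_W_P_mem_borel_iff he (a := 0) (b := 0) (c := 0) (d := x) (by
    rw [P_zero, one_mul, W_inv]
    simpa [low, mul_assoc] using h)).2
  exact hx this.symm

theorem col_low (x : F) : mat (low he x) 0 0 = 1 ∧ mat (low he x) 1 0 = 0 ∧
    mat (low he x) 2 0 = x ∧ mat (low he x) 3 0 = x ^ e := by
  simp [low, mat_mul, mat_P, mat_W, Pmat, Jmat, nrm, Matrix.mul_apply, Fin.sum_univ_four,
    zero_pow_e he]

theorem col_W_mul (g : Sz F e) : mat (W he * g) 0 0 = mat g 3 0 ∧ mat (W he * g) 1 0 = mat g 2 0 ∧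
    mat (W he * g) 2 0 = mat g 1 0 ∧ mat (W he * g) 3 0 = mat g 0 0 := by
  simp [mat_mul, mat_W, Jmat, Matrix.mul_apply, Fin.sum_univ_four]

theorem col_U_mul (b : F) (g : Sz F e) :
    mat (P he 0 b * g) 0 0 = mat g 0 0 + b * mat g 2 0 + b ^ e * mat g 3 0 ∧
      mat (P he 0 b * g) 1 0 = mat g 1 0 + b * mat g 3 0 ∧
      mat (P he 0 b * g) 2 0 = mat g 2 0 ∧ mat (P he 0 b * g) 3 0 = mat g 3 0 := by
  simp [mat_mul, mat_P, Pmat, nrm, Matrix.mul_apply, Fin.sum_univ_four, zero_pow_e he]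

include he in
theorem den_ne (y : F) : 1 + y + y ^ e ≠ 0 := fun h => no_root he y (by linear_combination h)

include he in
theorem nrm_ne {a : F} (ha : a ≠ 0) (b : F) : nrm e a b ≠ 0 := by
  intro h
  refine no_root he (b / (a ^ e * a)) ?_
  rw [div_pow, mul_pow, he.pow_pow]
  have hA : a ^ e ≠ 0 := pow_ne_zero _ ha
  simp only [nrm, pow_add] at h
  field_simp
  linear_combination h

include he in
theorem pow_inj {u v : F} (hu : u ≠ 0) (hv : v ≠ 0) (h : u ^ e * v = v ^ e * u) : u = v := by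
  have h1 : (u / v) ^ e = u / v := by
    rw [div_pow]
    field_simp
    linear_combination h
  have h2 := he.pow_pow (u / v)
  rw [h1, h1, pow_two] at h2
  have h3 := mul_left_cancel₀ (div_ne_zero hu hv) (h2.symm.trans (mul_one _).symm)
  exact (div_eq_one_iff_eq hv).1 h3

variable [Finite F]

include he in
theorem exists_pow_eq (z : F) : ∃ y, y ^ e = z := by
  have hinj : Function.Injective fun y : F => y ^ e := fun u v h => by
    have h1 := congrArg (fun t => t ^ e) h
    simp only [he.pow_pow] at h1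
    exact sq_inj he h1
  exact (Finite.injective_iff_surjective.1 hinj) z

include he in
/-- The map `y ↦ y/(1 + y + y^e)` is not injective. -/
theorem exists_pair {k : F} (hk0 : k ≠ 0) (hk1 : k ≠ 1) :
    ∃ y₁ y₂ : F, y₁ ≠ 0 ∧ y₂ ≠ 0 ∧ y₁ ≠ y₂ ∧
      y₁ / (1 + y₁ + y₁ ^ e) = y₂ / (1 + y₂ + y₂ ^ e) := by
  have hk : k + k ^ e ≠ 0 := fun h => hk1 (pow_inj he hk0 one_ne_zero (by
    rw [one_pow, mul_one, one_mul]; linear_combination h - he.two * k))
  obtain ⟨s, hs⟩ := exists_pow_eq he ((1 + k) / (k + k ^ e))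
  have h1k : 1 + k ≠ 0 := fun h => hk1 (by linear_combination h - he.two)
  have hs0 : s ≠ 0 := by
    rintro rfl
    rw [zero_pow_e he] at hs
    exact div_ne_zero h1k hk hs.symm
  refine ⟨s, k * s, hs0, mul_ne_zero hk0 hs0, fun h => hk1 ?_, ?_⟩
  · exact mul_right_cancel₀ hs0 (by rw [one_mul]; exact h.symm)
  · have hs' : s ^ e * (k + k ^ e) = 1 + k := by rw [hs, div_mul_cancel₀ _ hk]
    rw [div_eq_div_iff (den_ne he s) (den_ne he (k * s)), mul_pow]
    linear_combination s * hs' + he.two * (s * 1 - k * s * s ^ e)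

/-- A Borel element of the normaliser of `⟨Z, Z^w⟩` outside `Z ⋊ D`. -/
theorem exists_outside {k : F} (hk0 : k ≠ 0) (hk1 : k ≠ 1) (N : Subgroup (Sz F e))
    (hZ : ∀ x, P he 0 x ∈ N) (hW : W he ∈ N) :
    ∃ c d t, c ≠ 0 ∧ P he c d * H e he t ∈ N := by
  obtain ⟨y₁, y₂, hy₁, hy₂, hne, hb⟩ := exists_pair he hk0 hk1
  set b := y₁ / (1 + y₁ + y₁ ^ e) with hb1
  set Db := 1 + b + b ^ e with hDb
  have hDb0 : Db ≠ 0 := den_ne he b
  -- the parameter of the second opposite element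
  have key : ∀ y, y ≠ 0 → y / (1 + y + y ^ e) = b → ∃ u, u ≠ 0 ∧
      u * (1 + y + y ^ e) = u ^ e * y ^ e ∧
      (u * Db ≠ 1 → ∃ c d t, c ≠ 0 ∧ P he c d * H e he t ∈ N) := by
    intro y hy hyb
    set D := 1 + y + y ^ e with hD
    have hD0 : D ≠ 0 := den_ne he y
    set a := y ^ e / D with ha
    have hye : y ^ e ≠ 0 := pow_ne_zero _ hy
    have ha0 : a ≠ 0 := div_ne_zero hye hD0
    -- `u / u ^ e = a`
    set u := (a ^ e * a)⁻¹ with hu
    have hu0 : u ≠ 0 := inv_ne_zero (mul_ne_zero (pow_ne_zero _ ha0) ha0)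
    have hua : u = u ^ e * a := by
      rw [hu, inv_pow, mul_pow, he.pow_pow]
      have := pow_ne_zero e ha0
      field_simp
    refine ⟨u, hu0, ?_, fun huD => ?_⟩
    · conv_lhs => rw [hua]
      rw [ha, mul_assoc, div_mul_cancel₀ _ hD0]
    obtain ⟨l0, l1, l2, l3⟩ := col_low he (1 : F)
    rw [one_pow] at l3
    -- the element and its first column
    set g := P he 0 b * (low he 1 * (P he 0 y * W he)) with hg
    have v : mat g 1 0 = 0 ∧ mat g 2 0 = y ^ e ∧ mat g 3 0 = D := by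
      have hbD : b * D = y := by rw [← hyb, div_mul_cancel₀ _ hD0]
      have h2 := he.two
      simp [hg, low, mat_mul, mat_P, mat_W, Pmat, Jmat, nrm, Matrix.mul_apply, Fin.sum_univ_four,
        zero_pow_e he]
      refine ⟨?_, ?_⟩ <;> grind
    have v0 : mat g 0 0 = D * a ^ (e + 2) := by
      have h := col_zero_eq he g (by rw [v.2.2]; exact hD0)
      simp only [v.1, v.2.1, v.2.2, zero_div] at h
      rw [h, nrm, zero_pow_e he, mul_zero, add_zero, add_zero]
    have hr : low he u * g ∈ borel F e := by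
      refine mem_borel_of_col he _ ?_
      have : mat (low he u * g) 3 0 = u ^ e * mat g 0 0 + u * mat g 1 0 + mat g 3 0 := by
        simp [low, mat_mul, mat_P, mat_W, Pmat, Jmat, nrm, Matrix.mul_apply, Fin.sum_univ_four,
          zero_pow_e he]
      rw [this, v.1, v.2.2, v0, hu, inv_pow, mul_pow, he.pow_pow, mul_zero, add_zero, pow_add]
      have := pow_ne_zero e ha0
      field_simp
      linear_combination D * he.two
    obtain ⟨c, d, t, hct⟩ := exists_borel_eq he _ hr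
    refine ⟨c, d, t, fun hc => huD ?_, hct ▸ ?_⟩
    · have h1 : mat (low he u * g * W he) 2 0 = 1 + u * Db := by
        rw [hg, show low he u * (P he 0 b * (low he 1 * (P he 0 y * W he))) * W he =
          low he u * (P he 0 b * (low he 1 * P he 0 y)) by
            simp only [mul_assoc, W_mul_W, mul_one]]
        simp [low, mat_mul, mat_P, mat_W, Pmat, Jmat, nrm, Matrix.mul_apply, Fin.sum_univ_four,
          zero_pow_e he, hDb]
        ring
      rw [hct, hc] at h1
      simp [mat_P, mat_W, mat, coe_H, Pmat, Jmat, Hmat, nrm, Matrix.mul_apply,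
        Fin.sum_univ_four, Matrix.vecMul_diagonal] at h1
      linear_combination -h1 - he.two
    · have hlow : ∀ x, low he x ∈ N := fun x => N.mul_mem (N.mul_mem hW (hZ x)) hW
      exact N.mul_mem (hlow u) (N.mul_mem (hZ b) (N.mul_mem (hlow 1) (N.mul_mem (hZ y) hW)))
  obtain ⟨u₁, hu₁, e₁, h₁⟩ := key y₁ hy₁ rfl
  obtain ⟨u₂, hu₂, e₂, h₂⟩ := key y₂ hy₂ hb.symm
  by_cases hu : u₁ * Db = 1
  · refine h₂ fun hu' => hne ?_
    have heq : u₁ = u₂ := mul_right_cancel₀ hDb0 (hu.trans hu'.symm)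
    rw [← heq] at e₂
    have hD1 := den_ne he y₁
    have hD2 := den_ne he y₂
    refine pow_inj he hy₁ hy₂ (mul_left_cancel₀ (pow_ne_zero e hu₁) ?_)
    have hb' : y₁ * (1 + y₂ + y₂ ^ e) = y₂ * (1 + y₁ + y₁ ^ e) :=
      (div_eq_div_iff hD1 hD2).1 hb
    linear_combination -(u₁ * hb') - y₂ * e₁ + y₁ * e₂
  · exact h₁ hu

/-- `Z` and its opposite generate. -/
theorem gen_top (hq : ∃ u : Fˣ, u ≠ 1) {K : Subgroup (Sz F e)} (hZ : ∀ x, P he 0 x ∈ K)
    (hL : ∀ x, low he x ∈ K) : K = ⊤ := by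
  set K₀ := Subgroup.closure (Set.range (P he 0) ∪ Set.range (low he)) with hK₀
  suffices K₀ = ⊤ by
    refine eq_top_iff.2 (this ▸ (Subgroup.closure_le K).2 ?_)
    rintro _ (⟨x, rfl⟩ | ⟨x, rfl⟩)
    · exact hZ x
    · exact hL x
  set N := Subgroup.normalizer (K₀ : Set (Sz F e))
  have hgen : ∀ x, P he 0 x ∈ K₀ ∧ low he x ∈ K₀ := fun x =>
    ⟨Subgroup.subset_closure (Or.inl ⟨x, rfl⟩), Subgroup.subset_closure (Or.inr ⟨x, rfl⟩)⟩
  have hself : K₀ ≤ N := Subgroup.le_normalizer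
  have conjmem : ∀ n : Sz F e,
      (∀ x, n * P he 0 x * n⁻¹ ∈ K₀ ∧ n * low he x * n⁻¹ ∈ K₀) → ∀ k ∈ K₀, n * k * n⁻¹ ∈ K₀ := by
    intro n hn k hk
    refine ((Subgroup.closure_le (K₀.comap (MulAut.conj n).toMonoidHom)).2 ?_ hk :)
    rintro _ (⟨x, rfl⟩ | ⟨x, rfl⟩)
    · exact (hn x).1
    · exact (hn x).2
  have hnorm : ∀ n : Sz F e, (∀ k ∈ K₀, n * k * n⁻¹ ∈ K₀) → (∀ k ∈ K₀, n⁻¹ * k * n ∈ K₀) →
      n ∈ N := by
    intro n h h' 
    refine Subgroup.mem_normalizer_iff.2 fun k => ⟨h k, fun hk => ?_⟩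
    simpa [mul_assoc] using h' _ hk
  have hWconj : ∀ k ∈ K₀, W he * k * (W he)⁻¹ ∈ K₀ := conjmem _ fun x => by
    rw [W_inv]
    refine ⟨(hgen x).2, ?_⟩
    rw [show W he * low he x * W he = (W he * W he) * P he 0 x * (W he * W he) by
      simp only [low, mul_assoc], W_mul_W, one_mul, mul_one]
    exact (hgen x).1
  have hWN : W he ∈ N := hnorm _ hWconj fun k hk => by
    have := hWconj k hk
    rwa [W_inv] at this ⊢
  have hHconj : ∀ t, ∀ k ∈ K₀, H e he t * k * (H e he t)⁻¹ ∈ K₀ := fun t => conjmem _ fun x => by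
    refine ⟨by rw [H_conj_P, mul_zero]; exact (hgen _).1, ?_⟩
    rw [show H e he t * low he x * (H e he t)⁻¹ =
      W he * (H e he t⁻¹ * P he 0 x * (H e he t⁻¹)⁻¹) * W he by
        have k1 : ∀ z, H e he t * (W he * z) = W he * (H e he t⁻¹ * z) := fun z => by
          rw [← mul_assoc, H_conj_W, mul_assoc]
        have k2 : W he * (H e he t)⁻¹ = H e he t * W he := by
          rw [H_conj_W, H_inv]
        simp only [low, mul_assoc]
        rw [k1, k2, H_inv he t⁻¹, inv_inv], H_conj_P, mul_zero]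
    exact (hgen _).2
  have hHN : ∀ t, H e he t ∈ N := fun t => hnorm _ (hHconj t) fun k hk => by
    have := hHconj t⁻¹ k hk
    rwa [← H_inv, inv_inv] at this
  obtain ⟨k, hk⟩ := hq
  obtain ⟨c, d, t, hc, hct⟩ := exists_outside he (k := (k : F)) k.ne_zero
    (fun h => hk (Units.ext h)) N (fun x => hself (hgen x).1) hWN
  have hcd : P he c d ∈ N := by
    have := N.mul_mem hct (N.inv_mem (hHN t))
    rwa [mul_inv_cancel_right] at this
  have hU : uGroup he ≤ N := by
    rintro _ ⟨⟨a, b⟩, rfl⟩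
    show P he a b ∈ N
    rcases eq_or_ne a 0 with rfl | ha
    · exact hself (hgen b).1
    obtain ⟨s, hs⟩ := (units_pow_e_bijective he).2 (Units.mk0 (a / c) (div_ne_zero ha hc))
    have hs' : (s : F) ^ e = a / c := by simpa using congrArg Units.val hs
    have h := N.mul_mem (N.mul_mem (N.mul_mem (hHN s) hcd) (N.inv_mem (hHN s)))
      (hself (hgen (b + (s : F) ^ (e + 2) * d)).1)
    rw [H_conj_P, P_mul, add_zero, mul_zero, add_zero, hs', div_mul_cancel₀ _ hc] at h
    convert h using 2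
    linear_combination -(he.two * ((s : F) ^ (e + 2) * d))
  have htop : N = ⊤ := eq_top_of_uGroup_lt he N hU fun h => W_notMem_borel he (h hWN)
  have : K₀.Normal := Subgroup.normalizer_eq_top_iff.1 htop
  exact eq_top_of_centre_mem he ⟨k, hk⟩ one_ne_zero (hgen 1).1

include he in
theorem cover_two (y : F) : ∃ k, k + k ^ e = y ∨ k + k ^ e = y + 1 := by
  let ψ : F →+ F :=
    { toFun := fun k => k + k ^ e
      map_zero' := by simp [zero_pow_e he]
      map_add' := fun u v => by rw [he.add_pow]; ring }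
  have hker : Nat.card ψ.ker = 2 := by
    rw [Nat.card_eq_two_iff' (⟨0, ψ.ker.zero_mem⟩ : ψ.ker)]
    refine ⟨⟨1, by show (1 : F) + 1 ^ e = 0; linear_combination he.two + (one_pow e : (1 : F) ^ e = 1)⟩,
      fun h => one_ne_zero (congrArg Subtype.val h), fun z hz => ?_⟩
    have h : z.1 + z.1 ^ e = 0 := z.2
    exact Subtype.ext (pow_inj he (v := (1 : F)) (fun h' => hz (Subtype.ext h')) one_ne_zero (by
      rw [one_pow, mul_one, one_mul]; linear_combination h - he.two * z.1))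
  have hidx : ψ.range.index = 2 := by
    have h1 := ψ.range.card_mul_index
    have h2 : ψ.ker.index = Nat.card ψ.range := AddSubgroup.index_ker ψ
    have h3 := ψ.ker.card_mul_index
    rw [hker, h2, ← h1, mul_comm] at h3
    exact (Nat.eq_of_mul_eq_mul_left Nat.card_pos h3.symm)
  have h1 : (1 : F) ∉ ψ.range := by
    rintro ⟨k, hk⟩
    have hk' : k + k ^ e = 1 := hk
    exact no_root he k (by linear_combination hk' + he.two)
  by_cases hy : y ∈ ψ.range
  · obtain ⟨k, hk⟩ := hy; exact ⟨k, Or.inl hk⟩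
  · obtain ⟨k, hk⟩ := (AddSubgroup.add_mem_iff_of_index_two hidx).2 (iff_of_false hy h1)
    exact ⟨k, Or.inr hk⟩

/-- Any two elements of order four of the unitriangular group are conjugate or inverse-conjugate in
the Borel subgroup. -/
theorem conj_four {a c : F} (b d : F) (ha : a ≠ 0) (hc : c ≠ 0) :
    ∃ m ∈ borel F e, m * P he c d * m⁻¹ = P he a b ∨ m * P he c d * m⁻¹ = (P he a b)⁻¹ := by
  obtain ⟨s, hs⟩ := (units_pow_e_bijective he).2 (Units.mk0 (a / c) (div_ne_zero ha hc))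
  have hs' : (s : F) ^ e = a / c := by simpa using congrArg Units.val hs
  set d' := (s : F) ^ (e + 2) * d
  have hA : a ^ e ≠ 0 := pow_ne_zero _ ha
  obtain ⟨k, hk⟩ := cover_two he ((b + d') / (a ^ e * a))
  refine ⟨P he (k * a) 0 * H e he s, mul_mem (P_mem_borel he _ _) (H_mem_borel he s), ?_⟩
  have hm : P he (k * a) 0 * H e he s * P he c d * (P he (k * a) 0 * H e he s)⁻¹ =
      P he a (d' + a ^ e * a * (k + k ^ e)) := by
    rw [_root_.mul_inv_rev, show P he (k * a) 0 * H e he s * P he c d *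
      ((H e he s)⁻¹ * (P he (k * a) 0)⁻¹) =
      P he (k * a) 0 * (H e he s * P he c d * (H e he s)⁻¹) * (P he (k * a) 0)⁻¹ by
        simp only [mul_assoc], H_conj_P, hs', div_mul_cancel₀ _ hc, P_inv, P_mul, P_mul,
      he.add_pow, mul_pow]
    congr 1
    · linear_combination he.two * (k * a)
    · linear_combination he.two * (k ^ e * a ^ e * k * a)
  rcases hk with hk | hk
  · left
    rw [hm, hk, mul_div_cancel₀ _ (mul_ne_zero hA ha)]
    congr 1
    linear_combination he.two * d'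
  · right
    rw [hm, hk, P_inv, mul_add, mul_div_cancel₀ _ (mul_ne_zero hA ha)]
    congr 1
    linear_combination he.two * d'

/-- Trace zero. -/
theorem exists_low {a : F} (b : F) (ha : a ≠ 0) :
    ∃ x, x ≠ 0 ∧ (P he a b * low he x) ^ 4 = 1 := by
  have hN := nrm_ne he ha b
  set K0 := a ^ (e + 1) / nrm e a b with hK
  have hK0 : K0 ≠ 0 := div_ne_zero (pow_ne_zero _ ha) hN
  set x := K0 ^ (e + 1) with hx
  refine ⟨x, pow_ne_zero _ hK0, ?_⟩
  have hxe : x ^ e * nrm e a b = a ^ e * a * x := by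
    rw [hx, pow_succ, mul_pow, he.pow_pow]
    have : a ^ e * a = K0 * nrm e a b := by rw [hK, div_mul_cancel₀ _ hN, pow_succ]
    rw [this]; ring
  have hxe' : x ^ 2 * (nrm e a b) ^ e = a ^ 2 * a ^ e * x ^ e := by
    have := congrArg (fun z => z ^ e) hxe
    simpa only [mul_pow, he.pow_pow] using this
  have hnrme : (nrm e a b) ^ e = (a ^ e) ^ 2 * a ^ 2 + a ^ e * b ^ e + b ^ 2 := by
    have h : a ^ (e + 2) = a ^ e * a ^ 2 := pow_add a e 2
    rw [nrm, he.add_pow, he.add_pow, h, mul_pow, mul_pow, he.pow_pow, he.pow_pow,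
      pow_right_comm a 2 e]
    ring
  rw [hnrme] at hxe'
  simp only [nrm, pow_add] at hxe
  have h2 := he.two
  refine mat_injective ?_
  have hL : mat (low he x) = !![1, 0, 0, 0; 0, 1, 0, 0; x, 0, 1, 0; x ^ e, x, 0, 1] := by
    ext i j
    fin_cases i <;> fin_cases j <;>
      simp [low, mat_mul, mat_P, mat_W, Pmat, Jmat, nrm, Matrix.mul_apply, Fin.sum_univ_four,
        zero_pow_e he]
  show mat ((P he a b * low he x) ^ (2 * 2)) = mat (1 : Sz F e)
  rw [pow_mul, pow_two, pow_two, mat_mul, mat_mul, mat_mul, mat_P, hL]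
  clear hL hnrme hx hK hK0 hN ha
  clear_value x
  clear K0
  ext i j
  fin_cases i <;> fin_cases j <;>
    simp [Pmat, nrm, pow_add, mat, Matrix.mul_apply, Fin.sum_univ_four] <;>
    (generalize a ^ e = A at *; generalize b ^ e = B at *; generalize x ^ e = X at *; grind)

theorem four {a : F} (b : F) (ha : a ≠ 0) {Hs : Subgroup (Sz F e)} (hs : P he a b ∈ Hs)
    (hZ : ∀ x, P he 0 x ∈ Hs) :
    ∃ g₁ g₂ c, g₁ ∉ borel F e ∧ g₂ ∉ borel F e ∧ g₁⁻¹ * c * g₁ ∈ Hs ∧
      g₂⁻¹ * ((P he a b)⁻¹ * c) * g₂ ∈ Hs := by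
  obtain ⟨x, hx, h4⟩ := exists_low he (b + a ^ e * a) ha
  rw [← P_inv] at h4
  set v := (P he a b)⁻¹ * low he x with hv
  have hvB : v ∉ borel F e := fun h => low_notMem he hx (by
    have := mul_mem (P_mem_borel he a b) h
    rwa [hv, mul_inv_cancel_left] at this)
  have : Fact (Nat.Prime 2) := ⟨Nat.prime_two⟩
  have hp : IsPGroup 2 (Subgroup.zpowers v) := by
    have hdvd : orderOf v ∣ 2 ^ 2 := orderOf_dvd_of_pow_eq_one (by norm_num; exact h4)
    obtain ⟨i, -, hi⟩ := (Nat.dvd_prime_pow Nat.prime_two).1 hdvd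
    exact IsPGroup.of_card (n := i) (by rw [Nat.card_zpowers, hi])
  obtain ⟨Q, hQ⟩ := hp.exists_le_sylow
  obtain ⟨g, rfl⟩ := MulAction.exists_smul_eq (Sz F e) (sylow2 he) Q
  have hvQ := hQ (Subgroup.mem_zpowers v)
  have hu : g⁻¹ * v * g ∈ uGroup he := by
    rw [Sylow.smul_def, Sylow.pointwise_smul_def, Subgroup.mem_pointwise_smul_iff_inv_smul_mem] at hvQ
    simpa [coe_sylow2] using hvQ
  obtain ⟨⟨c, d⟩, hcd⟩ := hu
  change P he c d = g⁻¹ * v * g at hcd
  have hc : c ≠ 0 := by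
    rintro rfl
    have hvv : v * v = 1 := by
      calc v * v = g * ((g⁻¹ * v * g) * (g⁻¹ * v * g)) * g⁻¹ := by group
        _ = 1 := by rw [← hcd, P_zero_sq]; group
    have hLinv : (low he x)⁻¹ = low he x := by
      rw [low, _root_.mul_inv_rev, _root_.mul_inv_rev, W_inv, P_zero_inv, mul_assoc]
    have hne : P he a (b + a ^ e * a) ≠ 1 := fun h => ha (P_eq_one he h).1
    refine low_notMem he hx ?_
    have hconj : low he x * P he a (b + a ^ e * a) * (low he x)⁻¹ = P he a b := by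
      rw [hLinv, ← P_inv]
      calc low he x * (P he a b)⁻¹ * low he x = P he a b * (v * v) := by rw [hv]; group
        _ = P he a b := by rw [hvv, mul_one]
    have := mem_borel_of_conj_fix he hne hconj (P_mem_borel he a b)
    rwa [hLinv] at this
  obtain ⟨m, hm, hm'⟩ := conj_four he b d ha hc
  refine ⟨W he, g * m⁻¹, low he x, W_notMem_borel he, fun h => hvB ?_, ?_, ?_⟩
  · have hg : g ∈ borel F e := by
      have := mul_mem h hm
      rwa [inv_mul_cancel_right] at this
    have := mul_mem (mul_mem hg (P_mem_borel he c d)) (inv_mem hg)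
    rwa [hcd, show g * (g⁻¹ * v * g) * g⁻¹ = v by group] at this
  · rw [low, W_inv, show W he * (W he * P he 0 x * W he) * W he =
      W he * W he * P he 0 x * (W he * W he) by simp only [mul_assoc], W_mul_W, one_mul, mul_one]
    exact hZ x
  · rw [show (g * m⁻¹)⁻¹ * v * (g * m⁻¹) = m * (g⁻¹ * v * g) * m⁻¹ by group, ← hcd]
    rcases hm' with h | h <;> rw [h]
    · exact hs
    · exact Hs.inv_mem hs

/-- The frame. -/
noncomputable def frame (hq : ∃ u : Fˣ, u ≠ 1) : Frame (Sz F e) where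
  S := uGroup he
  Z := zSub he
  D := torus he
  M := borel F e
  w := W he
  isP := uGroup_isPGroup he
  index_odd := not_two_dvd_index he
  mem_M m := by
    constructor
    · intro hm
      obtain ⟨a, b, t, rfl⟩ := exists_borel_eq he m hm
      exact ⟨_, P_mem_uGroup he a b, _, ⟨t, rfl⟩, rfl⟩
    · rintro ⟨_, hs, _, ⟨t, rfl⟩, rfl⟩
      exact mul_mem (uGroup_le_borel he hs) (H_mem_borel he t)
  conj_S := by
    rintro _ ⟨t, rfl⟩ _ ⟨⟨a, b⟩, rfl⟩
    rw [H_conj_P]; exact P_mem_uGroup he _ _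
  odd_D := by
    cases nonempty_fintype F
    have h : Nat.card (torus he) = Nat.card Fˣ :=
      (Nat.card_congr (Equiv.ofInjective _ (H_injective he))).symm
    rw [h, Nat.card_units]
    exact Nat.Even.sub_odd Nat.card_pos (even_card he) odd_one
  Z_le := by rintro _ ⟨b, rfl⟩; exact P_mem_uGroup he 0 b
  mem_Z := by
    rintro _ ⟨⟨a, b⟩, rfl⟩
    refine ⟨fun h => ?_, ?_⟩
    · change P he a b * P he a b = 1 at h
      rw [P_mul] at h
      have h1 := (P_eq_one he h).2
      refine (mem_zSub_iff he).2 ?_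
      rcases mul_eq_zero.1 (show a ^ e * a = 0 by linear_combination h1 - he.two * b) with h3 | h3
      · exact eq_zero_of_pow_eq_zero h3
      · exact h3
    · rintro ⟨c, hc⟩
      rw [← hc, P_zero_sq]
  sq_mem := by
    rintro _ ⟨⟨a, b⟩, rfl⟩
    show P he a b * P he a b ∈ zSub he
    rw [P_mul, mem_zSub_iff]
    linear_combination he.two * a
  Z_comm := by
    rintro _ ⟨⟨a, b⟩, rfl⟩ _ ⟨c, rfl⟩
    show P he a b * P he 0 c = P he 0 c * P he a b
    rw [P_mul, P_mul, zero_pow_e he]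
    congr 1 <;> ring
  comm_mem := by
    rintro _ ⟨⟨a, b⟩, rfl⟩ _ ⟨⟨c, d⟩, rfl⟩
    show P he a b * P he c d * (P he a b)⁻¹ * (P he c d)⁻¹ ∈ zSub he
    rw [P_inv, P_inv, P_mul, P_mul, P_mul, mem_zSub_iff]
    linear_combination he.two * (a + c)
  cover g hg := by
    obtain ⟨a, b, c, d, t, rfl⟩ := exists_bruhat' he g hg
    exact ⟨_, P_mem_uGroup he a b, _, mul_mem (P_mem_borel he c d) (H_mem_borel he t),
      by simp only [mul_assoc]⟩
  inter g hg hg' := by
    obtain ⟨a, b, t, rfl⟩ := exists_borel_eq he g hg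
    have h1 := mul_mem hg' (inv_mem (H_mem_borel he t⁻¹))
    rw [W_inv, ← W_conj_H] at h1
    have h2 : (P he 0 0 * W he)⁻¹ * (P he a b * W he) ∈ borel F e := by
      rw [P_zero, one_mul, W_inv]
      convert h1 using 1
      simp only [_root_.mul_inv_rev, W_inv, mul_assoc]
      rw [← mul_assoc (W he) (W he), W_mul_W, one_mul, mul_inv_cancel_left]
    obtain ⟨h3, h4⟩ := P_W_P_mem_borel_iff he h2
    rw [← h3, ← h4, P_zero, one_mul]
    exact ⟨t, rfl⟩
  w_zpowers := by
    rintro _ ⟨t, rfl⟩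
    refine ⟨-1, ?_⟩
    show H e he t ^ (-1 : ℤ) = _
    rw [zpow_neg_one, W_inv, W_conj_H, H_inv]
  fpf := by
    rintro _ ⟨t, rfl⟩ hd _ ⟨⟨a, b⟩, rfl⟩ h
    show P he a b ∈ zSub he
    change H e he t * P he a b * (H e he t)⁻¹ * (P he a b)⁻¹ ∈ zSub he at h
    rw [H_conj_P, P_inv, P_mul, mem_zSub_iff] at h
    rw [mem_zSub_iff]
    by_contra ha
    refine hd ?_
    have ht : (t : F) ^ e * a = a := by linear_combination h - he.two * a
    have ht1 : (t : F) = 1 := eq_one_of_pow_e he (mul_right_cancel₀ ha (by rw [ht, one_mul]))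
    rw [show t = 1 from Units.ext ht1, H_one]
  zfix := by
    rintro _ ⟨t, rfl⟩ _ ⟨b, rfl⟩ h1 hc z' -
    have e1 : H e he t * P he 0 b * (H e he t)⁻¹ = P he 0 b := mul_inv_eq_iff_eq_mul.2 hc
    rw [H_conj_P, mul_zero] at e1
    have hb : b ≠ 0 := fun h => h1 (by rw [h, P_zero])
    have ht1 : (t : F) = 1 := eq_one_of_pow_e2 he
      (mul_right_cancel₀ hb (by rw [(P_injective he e1).2, one_mul]))
    rw [show t = 1 from Units.ext ht1, H_one]
    exact Commute.one_left z'
  gen K hK := by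
    rintro _ ⟨b, rfl⟩ hb hwz
    refine eq_top_of_uGroup_lt he K hK fun h => low_notMem he (fun h0 => hb (by rw [h0, P_zero]))
      (x := b) (h ?_)
    rwa [W_inv] at hwz
  extra := by
    obtain ⟨u, hu⟩ := hq
    refine ⟨H e he u, ⟨u, rfl⟩, fun h => hu (H_injective he (h.trans (H_one he).symm)),
      fun K hK hwK => ?_⟩
    rw [gen_top he ⟨u, hu⟩ (K := K) (fun x => hK ⟨x, rfl⟩) (fun x => by
      have := hwK _ ⟨x, rfl⟩
      rwa [W_inv] at this)]
    trivial
  four := by
    rintro _ ⟨⟨a, b⟩, rfl⟩ hs' Hs hsH hZH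
    exact four he b (fun ha => hs' ((mem_zSub_iff he).2 ha)) hsH fun x => hZH ⟨x, rfl⟩
  central := by
    rintro _ ⟨t, rfl⟩ hd hc
    exfalso
    refine hd ?_
    have e1 : H e he t * P he 0 1 * (H e he t)⁻¹ = P he 0 1 := mul_inv_eq_iff_eq_mul.2 (hc _ ⟨1, rfl⟩)
    rw [H_conj_P, mul_zero, mul_one] at e1
    rw [show t = 1 from Units.ext (eq_one_of_pow_e2 he (P_injective he e1).2), H_one]

end CfsgLib.Perm.BinaryOneClass.SzModel
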