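import Cfsg.Agent.Lib.Perm.BinaryOneClass.Frame
import Cfsg.Agent.Lib.KnownB.SU3Pres.Borel
import Cfsg.Agent.Lib.KnownC.AutPSU.Basic
import Mathlib.GroupTheory.Sylow

/-!
# The frame of the unitary groups in dimension three, characteristic two

The element `e(x, λ(a)) h(a) j` has order three; two of them give the triangle relation
`s · gsg⁻¹ · g²sg⁻² = 1`.
-/

set_option autoImplicit false
set_option linter.unusedSectionVars false

open Module CfsgLib.Classical CfsgLib.KnownA.MinIndexU3 CfsgLib.Perm.Quad.SL2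
open CfsgLib.SLPres CfsgLib.SL2Pres CfsgLib.SUPres CfsgLib.SU3Pres
open CfsgLib.KnownC.AutPSU (PG)

namespace CfsgLib.Perm.BinaryOneClass

/-- A `2`-subgroup whose normaliser is `S D` with `D` odd is a Sylow subgroup. -/
theorem index_odd_of {X : Type*} [Group X] [Finite X] {S D : Subgroup X} (hP : IsPGroup 2 S)
    (hD : Odd (Nat.card D))
    (hN : ∀ g, (∀ s ∈ S, g * s * g⁻¹ ∈ S) → ∃ s ∈ S, ∃ d ∈ D, g = s * d) : ¬ 2 ∣ S.index := by
  have : Fact (Nat.Prime 2) := ⟨Nat.prime_two⟩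
  obtain ⟨P, hSP⟩ := hP.exists_le_sylow
  suffices h : S = P by rw [h]; exact P.not_dvd_index
  by_contra hne
  set T := S.subgroupOf (P : Subgroup X)
  have hT : T < ⊤ := lt_top_iff_ne_top.2 fun h =>
    hne (le_antisymm hSP (Subgroup.subgroupOf_eq_top.1 h))
  haveI := P.2.isNilpotent
  obtain ⟨g, hg, hgT⟩ := SetLike.exists_of_lt
    (Group.normalizerCondition_of_isNilpotent T hT)
  obtain ⟨s, hs, d, hd, e⟩ := hN g fun s hs =>
    Subgroup.mem_subgroupOf.1 ((Subgroup.mem_normalizer_iff.1 hg ⟨s, hSP hs⟩).1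
      (Subgroup.mem_subgroupOf.2 hs))
  refine hgT (Subgroup.mem_subgroupOf.2 ?_)
  have hdP : d ∈ (P : Subgroup X) := by
    rw [show d = s⁻¹ * g by rw [e, inv_mul_cancel_left]]
    exact mul_mem (inv_mem (hSP hs)) g.2
  obtain ⟨k, hk⟩ := P.2 ⟨d, hdP⟩
  have h1 : orderOf d ∣ 2 ^ k := orderOf_dvd_of_pow_eq_one (by simpa using congrArg Subtype.val hk)
  have h2 : orderOf d ∣ Nat.card D := by simpa using orderOf_dvd_natCard (⟨d, hd⟩ : D)
  rw [e, orderOf_eq_one_iff.1 (Nat.eq_one_of_dvd_coprimes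
    ((Nat.coprime_two_left.2 hD).pow_left k) h1 h2), mul_one]
  exact hs

namespace U3Model

variable {F : Type*} [Field F] [Fintype F] [CharP F 2] {V : Type*} [AddCommGroup V] [Module F V]
  [FiniteDimensional F V] {σ : F →+* F} {B : V →ₛₗ[σ] V →ₗ[F] F} {q : ℕ} (C : U3 B q) (f : Fr B)

theorem sigma_one : σ (1 : F) = -1 := by rw [map_one, CharTwo.neg_eq]

/-- The Weyl element. -/
noncomputable abbrev J : sIsom B := jEl C f one_ne_zero sigma_one

theorem adm_iff {t c : F} : Adm C t c ↔ c + σ c = σ t * t := by rw [Adm, CharTwo.neg_eq]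

theorem adm_fixed {c : F} : Adm C 0 c ↔ σ c = c := by
  rw [adm_iff, map_zero, zero_mul]
  exact ⟨fun h => (CharTwo.add_eq_zero.1 h).symm, fun h => CharTwo.add_eq_zero.2 h.symm⟩

theorem J_sq : J C f * J C f = 1 := by
  rw [← map_mul, ← map_one (lHom C f one_ne_zero sigma_one)]
  congr 1
  apply ext2 <;> simp [mul_apply2, jSL_coe, CharTwo.neg_eq]

theorem J_inv : (J C f)⁻¹ = J C f := inv_eq_of_mul_eq_one_right (J_sq C f)

theorem J_apply : ap (J C f) f.v = f.s ∧ ap (J C f) f.w = f.w ∧ ap (J C f) f.s = f.v := by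
  obtain ⟨a, b, c⟩ := jEl_apply C f (one_ne_zero (α := F)) sigma_one
  exact ⟨by rw [a, inv_one, CharTwo.neg_eq, one_smul], b, by rw [c, one_smul]⟩

theorem J_hEl (a : Fˣ) :
    J C f * hEl C f a * J C f = hEl C f (Units.map (σ : F →* F) a)⁻¹ := by
  rw [← jEl_hEl C f one_ne_zero sigma_one a]
  congr 1
  exact (J_inv C f).symm

theorem eEl_eq_iff {t c t' c' : F} (h : Adm C t c) (h' : Adm C t' c') :
    eEl C f t c = eEl C f t' c' ↔ t = t' ∧ c = c' := by
  refine ⟨fun e => ?_, by rintro ⟨rfl, rfl⟩; rfl⟩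
  have := congrArg (fun g => ap g f.s) e
  simp only [(eEl_apply C f h).2.2, (eEl_apply C f h').2.2] at this
  obtain ⟨-, e1, e2⟩ := pnt_unique C f (k := 1) (this.trans (one_smul F _).symm)
  exact ⟨e1, e2⟩

/-- `J g J` fixes the line of `v` only for `g` in the torus. -/
theorem torus_of_conj {t c : F} (a : Fˣ) (h : Adm C t c)
    (hg : J C f * (eEl C f t c * hEl C f a) * J C f ∈ borel f C) : t = 0 ∧ c = 0 := by
  obtain ⟨α, hα⟩ := hg
  have h1 : ap (eEl C f t c * hEl C f a * J C f) f.v = (α : F) • f.s := by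
    have := congrArg (ap (J C f)) hα
    rw [ap_smul, (J_apply C f).1, ← ap_mul, ← mul_assoc, ← mul_assoc, J_sq, one_mul] at this
    exact this
  rw [ap_mul, ap_mul, (J_apply C f).1, (hEl_apply C f a).2.2, ap_smul,
    (eEl_apply C f h).2.2] at h1
  have hs : (σ (a : F))⁻¹ ≠ 0 := inv_ne_zero (sigma_ne_zero C a.ne_zero)
  have h2 : pnt f C t c = ((σ (a : F))⁻¹⁻¹ * α) • pnt f C 0 0 := by
    rw [mul_smul, show pnt f C 0 0 = f.s by simp [pnt], ← h1, smul_smul, inv_mul_cancel₀ hs, one_smul]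
    rfl
  exact (pnt_unique C f h2).2

theorem center_le {k : sIsom B} (hk : k ∈ Subgroup.center (sIsom B)) : k ∈ borel f C := by
  have h1 : Adm C 0 1 := (adm_fixed C).2 (map_one σ)
  obtain ⟨ev, ew, es⟩ := eEl_apply C f h1
  set e := eEl C f 0 1
  have hfix : ap e (ap k f.v) = ap k f.v := by
    rw [← ap_mul, (Subgroup.mem_center_iff.1 hk e), ap_mul, ev]
  set x := ap k f.v with hx
  have hxx : B x x = 0 := (k.1.2 f.v f.v).trans f.vv
  have hxne : x ≠ 0 := fun e => f.v_ne_zero (k.1.1.injective (by rw [map_zero]; exact e))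
  rcases point_cases C f hxne hxx with ⟨a, ha⟩ | ⟨t, c, r, -, hr⟩
  · exact ⟨a, ha⟩
  · exfalso
    rw [hr, ap_smul, pnt, ap, map_add, map_add, map_smul, map_smul] at hfix
    change (r : F) • (ap e f.s + t • ap e f.w + c • ap e f.v) = _ at hfix
    rw [ev, ew, es] at hfix
    have h2 := congrArg (B f.s) (smul_right_injective V r.ne_zero hfix)
    simp [f.sv C, f.sw, f.ss] at h2

theorem center_torus {k : sIsom B} (hk : k ∈ Subgroup.center (sIsom B)) :
    ∃ a : Fˣ, k = hEl C f a ∧ lamM σ (a : F) = 1 := by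
  obtain ⟨t, c, a, h, rfl⟩ := borel_cases C f (center_le C f hk)
  have hJ : J C f * (eEl C f t c * hEl C f a) * J C f = eEl C f t c * hEl C f a := by
    rw [Subgroup.mem_center_iff.1 hk (J C f), mul_assoc, J_sq, mul_one]
  obtain ⟨rfl, rfl⟩ := torus_of_conj C f a h (by rw [hJ]; exact center_le C f hk)
  rw [eEl_zero, one_mul] at hk ⊢
  refine ⟨a, rfl, ?_⟩
  obtain ⟨y, hy⟩ := C.herm.conj.exists_norm_eq (map_one σ)
  obtain ⟨r, hr⟩ := C.herm.conj.exists_trace_zero
  obtain ⟨β, hβ⟩ : ∃ β, Adm C 1 β := by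
    obtain ⟨z, hz⟩ := C.herm.conj.exists_not_fixed
    have hd : z + σ z ≠ 0 := fun e => hz (CharTwo.add_eq_zero.1 e).symm
    refine ⟨z / (z + σ z), (adm_iff C).2 ?_⟩
    rw [map_div₀, map_add, C.herm.conj.invol, map_one, add_comm (σ z) z, ← add_div, div_self hd,
      one_mul]
  have h2 : hEl C f a * eEl C f 1 β * (hEl C f a)⁻¹ = eEl C f 1 β := by
    rw [← Subgroup.mem_center_iff.1 hk, mul_inv_cancel_right]
  rw [hEl_conj C f hβ, eEl_eq_iff C f (adm_scale C hβ a) hβ, mul_one] at h2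
  exact h2.1

theorem hEl_center {a : Fˣ} (h : lamM σ (a : F) = 1) : hEl C f a ∈ Subgroup.center (sIsom B) := by
  have ha := a.ne_zero
  have hs := sigma_ne_zero C ha
  have hn := lamM_norm C ha
  rw [h, map_one, one_mul] at hn
  have h' : σ (a : F) * σ a = a := by
    rwa [lamM, div_eq_one_iff_eq ha] at h
  obtain ⟨x, y, z⟩ := hEl_apply C f a
  have hsc : ∀ x : V, ap (hEl C f a) x = (a : F) • x := by
    intro u
    conv_lhs => rw [f.expand C u]
    conv_rhs => rw [f.expand C u]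
    simp only [ap, map_add, map_smul, smul_add]
    simp only [ap] at x y z
    have hsq : σ (a : F) = (a : F) * a := by
      linear_combination (σ (a : F)) * hn + (a : F) * h'
    rw [x, y, z, show σ (a : F) / a = (a : F) by rw [hsq, mul_div_cancel_right₀ _ ha],
      show (σ (a : F))⁻¹ = (a : F) from inv_eq_of_mul_eq_one_left hn.symm]
    simp only [smul_comm (a : F)]
  refine Subgroup.mem_center_iff.2 fun g => fr_ext C f ?_ ?_ ?_ <;>
    rw [ap_mul, ap_mul, hsc, hsc, ap_smul]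

theorem adm_sq {t c : F} (h : Adm C t c) :
    eEl C f t c * eEl C f t c = eEl C f 0 (σ t * t) := by
  rw [eEl_mul C f h h, CharTwo.add_self_eq_zero, CharTwo.add_self_eq_zero, zero_sub, CharTwo.neg_eq]

theorem adm_norm (t : F) : Adm C 0 (σ t * t) :=
  (adm_fixed C).2 (by rw [map_mul, C.herm.conj.invol, mul_comm])

local notation "π" => QuotientGroup.mk' (Subgroup.center (sIsom B))

/-- The root group. -/
def Ug : Subgroup (PG B) where
  carrier := {g | ∃ t c, Adm C t c ∧ π (eEl C f t c) = g}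
  one_mem' := ⟨0, 0, adm_zero C, by rw [eEl_zero, map_one]⟩
  mul_mem' := by
    rintro _ _ ⟨t, c, h, rfl⟩ ⟨t', c', h', rfl⟩
    exact ⟨_, _, adm_add C h h', by rw [← eEl_mul C f h h', map_mul]⟩
  inv_mem' := by
    rintro _ ⟨t, c, h, rfl⟩
    exact ⟨_, _, adm_neg C h, by rw [← eEl_inv C f h, map_inv]⟩

/-- Its centre. -/
def Zg : Subgroup (PG B) where
  carrier := {g | ∃ c, σ c = c ∧ π (eEl C f 0 c) = g}
  one_mem' := ⟨0, map_zero σ, by rw [eEl_zero, map_one]⟩
  mul_mem' := by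
    rintro _ _ ⟨c, h, rfl⟩ ⟨c', h', rfl⟩
    refine ⟨c + c', by rw [map_add, h, h'], ?_⟩
    rw [← map_mul, eEl_mul C f ((adm_fixed C).2 h) ((adm_fixed C).2 h')]
    congr 2 <;> simp
  inv_mem' := by
    rintro _ ⟨c, h, rfl⟩
    refine ⟨c, h, ?_⟩
    rw [← map_inv, eEl_inv C f ((adm_fixed C).2 h), neg_zero, h]

theorem eEl_center {t c : F} (h : Adm C t c) (hk : eEl C f t c ∈ Subgroup.center (sIsom B)) :
    t = 0 ∧ c = 0 := by
  obtain ⟨a, ha, -⟩ := center_torus C f hk
  have hv := congrArg (fun g => ap g f.v) ha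
  simp only [(eEl_apply C f h).1, (hEl_apply C f a).1] at hv
  have h1 : a = 1 := Units.ext (smul_left_injective F f.v_ne_zero
    (hv.symm.trans (one_smul F f.v).symm))
  rw [h1, ← hHom_apply, map_one, ← eEl_zero C f, eEl_eq_iff C f h (adm_zero C)] at ha
  exact ha

theorem mk_eq_iff {t c t' c' : F} (h : Adm C t c) (h' : Adm C t' c') :
    π (eEl C f t c) = π (eEl C f t' c') ↔ t = t' ∧ c = c' := by
  refine ⟨fun e => ?_, by rintro ⟨rfl, rfl⟩; rfl⟩
  have hk : (eEl C f t c)⁻¹ * eEl C f t' c' ∈ Subgroup.center (sIsom B) := QuotientGroup.eq.1 e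
  rw [eEl_inv C f h, eEl_mul C f (adm_neg C h) h'] at hk
  obtain ⟨h1, h2⟩ := eEl_center C f (adm_add C (adm_neg C h) h') hk
  have ht : t = t' := neg_add_eq_zero.1 h1
  refine ⟨ht, ?_⟩
  have hc := (adm_iff C).1 h
  rw [← ht, map_neg] at h2
  linear_combination -h2 + hc + (σ t * t) * CharTwo.two_eq_zero (R := F)

theorem mem_Zg_iff {t c : F} (h : Adm C t c) : π (eEl C f t c) ∈ Zg C f ↔ t = 0 := by
  constructor
  · rintro ⟨d, hd, e⟩
    exact ((mk_eq_iff C f ((adm_fixed C).2 hd) h).1 e).1.symm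
  · rintro rfl
    exact ⟨c, (adm_fixed C).1 h, rfl⟩

theorem mem_M_iff {x : sIsom B} : π x ∈ (borel f C).map π ↔ x ∈ borel f C := by
  refine ⟨fun ⟨y, hy, e⟩ => ?_, fun h => ⟨x, h, rfl⟩⟩
  have := mul_mem hy (center_le C f (QuotientGroup.eq.1 e))
  rwa [mul_inv_cancel_left] at this

/-- The torus. -/
noncomputable def torusHom : Fˣ →* PG B := (π).comp (hHom C f)

theorem torusHom_apply (a : Fˣ) : torusHom C f a = π (hEl C f a) := rfl

theorem lamM_of_ne_one {a : Fˣ} (h : torusHom C f a ≠ 1) : lamM σ (a : F) ≠ 1 := fun e =>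
  h ((QuotientGroup.eq_one_iff _).2 (hEl_center C f e))

theorem conj_root {t c : F} (h : Adm C t c) (a : Fˣ) :
    torusHom C f a * π (eEl C f t c) * (torusHom C f a)⁻¹ =
      π (eEl C f (lamM σ (a : F) * t) ((a : F) * σ a * c)) := by
  rw [torusHom_apply, ← map_inv, ← map_mul, ← map_mul, hEl_conj C f h]

theorem conj_fixed {c : F} (hc : σ c = c) (hc0 : c ≠ 0) {g : sIsom B}
    (hg : g * eEl C f 0 c * g⁻¹ ∈ borel f C) : g ∈ borel f C := by
  by_contra hn
  rcases exists_cell C f one_ne_zero sigma_one g with h | ⟨x, hx, y, hy, rfl⟩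
  · exact hn h
  obtain ⟨t, c', a, hadm, rfl⟩ := borel_cases C f hy
  have h0 := (adm_fixed C).2 hc
  have h1 := adm_scale C h0 a
  rw [mul_zero] at h1
  have e : eEl C f t c' * hEl C f a * eEl C f 0 c * (eEl C f t c' * hEl C f a)⁻¹ =
      eEl C f 0 ((a : F) * σ a * c) := by
    rw [show eEl C f t c' * hEl C f a * eEl C f 0 c * (eEl C f t c' * hEl C f a)⁻¹ =
      eEl C f t c' * (hEl C f a * eEl C f 0 c * (hEl C f a)⁻¹) * (eEl C f t c')⁻¹ by group,
      hEl_conj C f h0, mul_zero, mul_inv_eq_iff_eq_mul, eEl_mul C f hadm h1, eEl_mul C f h1 hadm]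
    simp [add_comm]
  have h2 := mul_mem (mul_mem (inv_mem hx) hg) hx
  rw [show x⁻¹ * (x * J C f * (eEl C f t c' * hEl C f a) * eEl C f 0 c *
      (x * J C f * (eEl C f t c' * hEl C f a))⁻¹) * x =
      J C f * (eEl C f t c' * hEl C f a * eEl C f 0 c * (eEl C f t c' * hEl C f a)⁻¹) *
        (J C f)⁻¹ by group, e, J_inv, ← mul_one (eEl C f 0 _), ← map_one (hHom C f)] at h2
  have h3 := (torus_of_conj C f 1 h1 h2).2
  exact hc0 (by simpa [a.ne_zero] using h3)

theorem cell_scale {t c : F} (h : Adm C t c) (hc : c ≠ 0) :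
    Adm C (t / c) (1 / c) ∧
      ap ((eEl C f (t / c) (1 / c) * J C f)⁻¹ * (J C f * eEl C f t c * J C f)) f.v = c • f.v := by
  have hs := sigma_ne_zero C hc
  have h' : Adm C (t / c) (1 / c) := by
    rw [adm_iff, map_div₀, map_div₀, map_one]
    have := (adm_iff C).1 h
    field_simp
    linear_combination this
  refine ⟨h', ?_⟩
  rw [ap_mul]
  refine ap_inv_of ?_
  rw [ap_smul, ap_mul (eEl C f _ _), (J_apply C f).1, (eEl_apply C f h').2.2,
    jej_point C f one_ne_zero sigma_one h hc]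
  simp [pnt, CharTwo.neg_eq]

theorem gen_top {K : Subgroup (PG B)} (hU : Ug C f ≤ K) (hJ : π (J C f) ∈ K) : K = ⊤ := by
  have hh : ∀ a : Fˣ, torusHom C f a ∈ K := by
    intro a
    obtain ⟨t, ht⟩ := C.herm.conj.exists_norm_eq
      (show σ ((a : F) + σ a) = (a : F) + σ a by rw [map_add, C.herm.conj.invol, add_comm])
    have h : Adm C t a := by rw [adm_iff, mul_comm]; exact ht.symm
    obtain ⟨h', hb⟩ := cell_scale C f h a.ne_zero
    set x := (eEl C f (t / a) (1 / a) * J C f)⁻¹ * (J C f * eEl C f t a * J C f) with hx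
    obtain ⟨t', c', a', h'', e⟩ := borel_cases C f (⟨a, hb⟩ : x ∈ borel f C)
    have ha' : a' = a := by
      rw [e, ap_mul, (hEl_apply C f a').1, ap_smul, (eEl_apply C f h'').1] at hb
      exact Units.ext (smul_left_injective F f.v_ne_zero hb)
    have hxK : π x ∈ K := by
      rw [hx, map_mul, map_inv, map_mul, map_mul, map_mul]
      exact mul_mem (inv_mem (mul_mem (hU ⟨_, _, h', rfl⟩) hJ))
        (mul_mem (mul_mem hJ (hU ⟨_, _, h, rfl⟩)) hJ)
    rw [e, map_mul, ha'] at hxK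
    exact (K.mul_mem_cancel_left (hU ⟨_, _, h'', rfl⟩)).1 hxK
  refine eq_top_iff.2 fun g _ => ?_
  obtain ⟨x, rfl⟩ := QuotientGroup.mk'_surjective (Subgroup.center (sIsom B)) g
  have hb : ∀ y ∈ borel f C, π y ∈ K := by
    intro y hy
    obtain ⟨t, c, a, h, rfl⟩ := borel_cases C f hy
    rw [map_mul]
    exact mul_mem (hU ⟨_, _, h, rfl⟩) (hh a)
  rcases exists_cell C f one_ne_zero sigma_one x with h | ⟨y, hy, z, hz, rfl⟩
  · exact hb x h
  · rw [map_mul, map_mul]
    exact mul_mem (mul_mem (hb y hy) hJ) (hb z hz)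

theorem lHom_up_mk (k : fixK σ) :
    π (lHom C f one_ne_zero sigma_one (up k)) = π (eEl C f 0 (k : F)) := by
  rw [lHom_up, mul_one]

/-- The element of order three. -/
theorem cube {x : F} (a : Fˣ) (h : Adm C x (lamM σ (a : F))) :
    (eEl C f x (lamM σ (a : F)) * hEl C f a * J C f) ^ 3 = 1 := by
  have ha := a.ne_zero
  have hs := sigma_ne_zero C ha
  set g := eEl C f x (lamM σ (a : F)) * hEl C f a * J C f with hg
  set p := (σ (a : F))⁻¹
  set m := σ (a : F) / a
  set y := lamM σ (a : F) with hy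
  obtain ⟨ev, ew, es⟩ := eEl_apply C f h
  obtain ⟨hv, hw, hs'⟩ := hEl_apply C f a
  have gv : ap g f.v = p • (f.s + x • f.w + y • f.v) := by
    rw [hg, ap_mul, ap_mul, (J_apply C f).1, hs', ap_smul, es]
  have gw : ap g f.w = m • (f.w - σ x • f.v) := by
    rw [hg, ap_mul, ap_mul, (J_apply C f).2.1, hw, ap_smul, ew]
  have gs : ap g f.s = (a : F) • f.v := by
    rw [hg, ap_mul, ap_mul, (J_apply C f).2.2, hv, ap_smul, ev]
  have h' := (adm_iff C).1 h
  have hσy : σ y = (a : F) * a / σ a := by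
    rw [hy, lamM, map_div₀, map_mul, C.herm.conj.invol]
  have hy' : y = m * σ a := by rw [hy, lamM]; simp only [m]; field_simp
  have h2 := CharTwo.two_eq_zero (R := F)
  rw [hσy] at h'
  rw [pow_succ, pow_two]
  refine fr_ext C f ?_ ?_ ?_ <;>
    simp only [ap_mul, ap_one, ap] at gv gw gs ⊢ <;>
    simp only [gv, gw, gs, map_add, map_sub, map_smul] <;>
    match_scalars <;> simp only [p, m, hy'] at * <;> field_simp at * <;> grind

theorem exists_triangle (hq : q ≠ 2) {t c : F} (ht : t ≠ 0) (h : Adm C t c) :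
    ∃ g : sIsom B, g ∉ borel f C ∧ g ^ 3 = 1 ∧ (eEl C f t c * g) ^ 3 = 1 := by
  have hst := sigma_ne_zero C ht
  set x := c / σ t with hx
  have hc : c ≠ 0 := fun e => by
    have := (adm_iff C).1 h
    rw [e, map_zero, zero_add] at this
    exact mul_ne_zero hst ht this.symm
  obtain ⟨w, hw, hgen⟩ := exists_generator (F := F)
  have hl := lam_notFixed C.herm.conj hw hgen C.frob C.card hq
  set l := lamM σ w
  have hd : l + σ l ≠ 0 := fun e => hl (CharTwo.add_eq_zero.1 e).symm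
  set k := σ x * x / (l + σ l) with hk
  have hkσ : σ k = k := by
    rw [hk, map_div₀, map_mul, map_add, C.herm.conj.invol, C.herm.conj.invol, add_comm (σ l),
      mul_comm x]
  have hx0 : x ≠ 0 := div_ne_zero hc hst
  have hk0 : k ≠ 0 := div_ne_zero (mul_ne_zero (sigma_ne_zero C hx0) hx0) hd
  set a : Fˣ := Units.mk0 (k * w) (mul_ne_zero hk0 hw) with ha
  have hlam : lamM σ (a : F) = k * l := by rw [ha, Units.val_mk0, lamM_mul, lamM_fixK hkσ]
  have hadm : Adm C x (lamM σ (a : F)) := by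
    rw [adm_iff, hlam, map_mul, hkσ, ← mul_add, hk, div_mul_cancel₀ _ hd]
  refine ⟨eEl C f x (lamM σ (a : F)) * hEl C f a * J C f, fun hb => ?_, cube C f a hadm, ?_⟩
  · obtain ⟨α, hα⟩ := hb
    rw [ap_mul, ap_mul, (J_apply C f).1, (hEl_apply C f a).2.2, ap_smul,
      (eEl_apply C f hadm).2.2] at hα
    refine pnt_not_line C f (t := x) (c := lamM σ (a : F)) (k := σ (a : F) * α) ?_
    rw [mul_smul, ← hα, smul_smul, mul_inv_cancel₀ (sigma_ne_zero C a.ne_zero), one_smul, pnt]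
  · have e : c + lamM σ (a : F) - σ t * x = lamM σ (a : F) := by
      rw [hx, mul_div_cancel₀ _ hst, add_sub_cancel_left]
    have hadm' := adm_add C h hadm
    rw [← mul_assoc, ← mul_assoc, eEl_mul C f h hadm, e]
    rw [e] at hadm'
    exact cube C f a hadm'

theorem lower_apply {τ : F} (hτ : σ τ = τ) :
    ap (J C f * eEl C f 0 τ * J C f) f.v = f.v + τ • f.s ∧
      ap (J C f * eEl C f 0 τ * J C f) f.w = f.w ∧
      ap (J C f * eEl C f 0 τ * J C f) f.s = f.s := by
  obtain ⟨jv, jw, js⟩ := J_apply C f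
  obtain ⟨ev, ew, es⟩ := eEl_apply C f ((adm_fixed C).2 hτ)
  simp only [ap] at jv jw js ev ew es ⊢
  refine ⟨?_, ?_, ?_⟩ <;> simp only [ap_mul, ap] <;>
    simp [jv, jw, js, ev, ew, es, map_add, map_smul]

set_option maxHeartbeats 1600000 in
/-- The frame of `PSU₃(q)`, `q` even. -/
noncomputable def frame (hq : 4 ≤ q) : Frame (PG B) where
  S := Ug C f
  Z := Zg C f
  D := (torusHom C f).range
  M := (borel f C).map π
  w := π (J C f)
  isP := by
    rintro ⟨_, t, c, h, rfl⟩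
    refine ⟨2, Subtype.ext ?_⟩
    show π (eEl C f t c) ^ (2 * 2) = 1
    rw [pow_mul, pow_two, pow_two, ← map_mul, adm_sq C f h, ← map_mul, adm_sq C f (adm_norm C t)]
    simp [eEl_zero]
  index_odd := by
    have : Finite V := Module.finite_of_finite F
    have : Finite (sIsom B) := Finite.of_injective (fun g : sIsom B => (⇑g.1.1 : V → V)) fun g g' e =>
      Subtype.ext (Subtype.ext (LinearEquiv.ext (congrFun e)))
    refine index_odd_of (D := (torusHom C f).range) (fun g => ?_) ?_ fun g hg => ?_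
    · obtain ⟨_, t, c, h, rfl⟩ := g
      refine ⟨2, Subtype.ext ?_⟩
      show π (eEl C f t c) ^ (2 * 2) = 1
      rw [pow_mul, pow_two, pow_two, ← map_mul, adm_sq C f h, ← map_mul, adm_sq C f (adm_norm C t)]
      simp [eEl_zero]
    · refine Odd.of_dvd_nat ?_ (Subgroup.card_range_dvd (torusHom C f))
      rw [Nat.card_units, Nat.card_eq_fintype_card]
      obtain ⟨n, -, hn⟩ := FiniteField.card F 2
      exact Nat.Even.sub_odd Fintype.card_pos (hn ▸ even_two.pow_of_ne_zero n.pos.ne') odd_one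
    · obtain ⟨x, rfl⟩ := QuotientGroup.mk'_surjective (Subgroup.center (sIsom B)) g
      obtain ⟨t, c, h, e⟩ := hg _ ⟨0, 1, (adm_fixed C).2 (map_one σ), rfl⟩
      have hx : x * eEl C f 0 1 * x⁻¹ ∈ borel f C := (mem_M_iff C f).1 (by
        rw [map_mul, map_mul, map_inv, ← e]
        exact ⟨_, eEl_mem C f h, rfl⟩)
      obtain ⟨t', c', a, h', rfl⟩ := borel_cases C f (conj_fixed C f (map_one σ) one_ne_zero hx)
      exact ⟨_, ⟨t', c', h', rfl⟩, _, ⟨a, rfl⟩, by rw [torusHom_apply, map_mul]⟩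
  mem_M m := by
    constructor
    · rintro ⟨x, hx, rfl⟩
      obtain ⟨t, c, a, h, rfl⟩ := borel_cases C f hx
      exact ⟨_, ⟨t, c, h, rfl⟩, _, ⟨a, rfl⟩, by rw [torusHom_apply, map_mul]⟩
    · rintro ⟨_, ⟨t, c, h, rfl⟩, _, ⟨a, rfl⟩, rfl⟩
      exact ⟨_, mul_mem (eEl_mem C f h) (hEl_mem C f a), by rw [torusHom_apply, map_mul]⟩
  conj_S := by
    rintro _ ⟨a, rfl⟩ _ ⟨t, c, h, rfl⟩
    exact ⟨_, _, adm_scale C h a, (conj_root C f h a).symm⟩
  odd_D := by
    refine Odd.of_dvd_nat ?_ (Subgroup.card_range_dvd (torusHom C f))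
    rw [Nat.card_units, Nat.card_eq_fintype_card]
    obtain ⟨n, -, hn⟩ := FiniteField.card F 2
    exact Nat.Even.sub_odd Fintype.card_pos (hn ▸ even_two.pow_of_ne_zero n.pos.ne') odd_one
  Z_le := by rintro _ ⟨c, h, rfl⟩; exact ⟨0, c, (adm_fixed C).2 h, rfl⟩
  mem_Z := by
    rintro _ ⟨t, c, h, rfl⟩
    rw [mem_Zg_iff C f h, ← map_mul, adm_sq C f h,
      ← map_one (π), ← eEl_zero C f, mk_eq_iff C f (adm_norm C t) (adm_zero C)]
    refine ⟨fun e => ?_, fun e => by simp [e]⟩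
    rcases mul_eq_zero.1 e.2 with e | e
    · exact (map_eq_zero σ).1 e
    · exact e
  sq_mem := by
    rintro _ ⟨t, c, h, rfl⟩
    rw [← map_mul, adm_sq C f h]
    exact (mem_Zg_iff C f (adm_norm C t)).2 rfl
  Z_comm := by
    rintro _ ⟨t, c, h, rfl⟩ _ ⟨d, hd, rfl⟩
    have h0 := (adm_fixed C).2 hd
    rw [← map_mul, ← map_mul, eEl_mul C f h h0, eEl_mul C f h0 h]
    simp [add_comm]
  comm_mem := by
    rintro _ ⟨t, c, h, rfl⟩ _ ⟨t', c', h', rfl⟩
    rw [← map_inv, ← map_inv, ← map_mul, ← map_mul, ← map_mul, eEl_inv C f h, eEl_inv C f h',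
      eEl_mul C f h h', eEl_mul C f (adm_add C h h') (adm_neg C h),
      eEl_mul C f (adm_add C (adm_add C h h') (adm_neg C h)) (adm_neg C h'),
      mem_Zg_iff C f (adm_add C (adm_add C (adm_add C h h') (adm_neg C h)) (adm_neg C h'))]
    ring
  cover g hg := by
    obtain ⟨x, rfl⟩ := QuotientGroup.mk'_surjective (Subgroup.center (sIsom B)) g
    rcases exists_cell C f one_ne_zero sigma_one x with h | ⟨y, hy, z, hz, rfl⟩
    · exact absurd ⟨x, h, rfl⟩ hg
    obtain ⟨t, c, a, h, rfl⟩ := borel_cases C f hy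
    refine ⟨_, ⟨t, c, h, rfl⟩, π (J C f * hEl C f a * J C f * z), ⟨_, mul_mem ?_ hz, rfl⟩, ?_⟩
    · rw [J_hEl]; exact hEl_mem C f _
    · rw [← map_mul, ← map_mul]
      congr 1
      simp only [← mul_assoc]
      rw [mul_assoc (eEl C f t c) (J C f) (J C f), J_sq, mul_one]
  inter g hg hg' := by
    obtain ⟨x, hx, rfl⟩ := hg
    rw [← map_inv, ← map_mul, ← map_mul, mem_M_iff C f, J_inv] at hg'
    obtain ⟨t, c, a, h, rfl⟩ := borel_cases C f hx
    obtain ⟨rfl, rfl⟩ := torus_of_conj C f a h hg'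
    exact ⟨a, by rw [eEl_zero, one_mul, torusHom_apply]⟩
  w_zpowers := by
    rintro _ ⟨a, rfl⟩
    refine ⟨-(q : ℤ), ?_⟩
    show torusHom C f a ^ (-(q : ℤ)) = _
    rw [← map_zpow, torusHom_apply, torusHom_apply, ← map_inv, ← map_mul, ← map_mul, J_inv, J_hEl,
      show Units.map (σ : F →* F) a = a ^ q from Units.ext (by simp [C.frob]), zpow_neg, zpow_natCast]
  fpf := by
    rintro _ ⟨a, rfl⟩ hd _ ⟨t, c, h, rfl⟩ hm
    rw [conj_root C f h, ← map_inv, ← map_mul, eEl_inv C f h,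
      eEl_mul C f (adm_scale C h a) (adm_neg C h),
      mem_Zg_iff C f (adm_add C (adm_scale C h a) (adm_neg C h))] at hm
    rw [mem_Zg_iff C f h]
    by_contra ht
    exact lamM_of_ne_one C f hd (mul_right_cancel₀ ht (by linear_combination hm))
  zfix := by
    rintro _ ⟨a, rfl⟩ _ ⟨c, hc, rfl⟩ h1 hcm _ ⟨c', hc', rfl⟩
    have h0 := (adm_fixed C).2 hc
    have h0' := (adm_fixed C).2 hc'
    have e := mul_inv_eq_iff_eq_mul.2 hcm
    rw [conj_root C f h0, mk_eq_iff C f (adm_scale C h0 a) h0] at e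
    have hc0 : c ≠ 0 := fun e => h1 (by rw [e, eEl_zero, map_one])
    have hn : (a : F) * σ a = 1 := mul_right_cancel₀ hc0 (by rw [one_mul]; exact e.2)
    refine mul_inv_eq_iff_eq_mul.1 ?_
    rw [conj_root C f h0', mul_zero, hn, one_mul]
  gen K hK := by
    rintro _ ⟨c, hc, rfl⟩ h1 hw
    refine gen_top C f hK ?_
    set L := (π).comp (lHom C f one_ne_zero sigma_one) with hL
    set c' : fixK σ := ⟨c, hc⟩
    have hc0 : c' ≠ 0 := fun e => h1 (by rw [show c = 0 from congrArg Subtype.val e, eEl_zero, map_one])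
    have hup : ∀ k, up k ∈ K.comap L := fun k => hK ⟨0, _, (adm_fixed C).2 k.2, (lHom_up_mk C f k).symm⟩
    have hlow : jSL * up c' * jSL ∈ K.comap L := by
      show L _ ∈ K
      rw [map_mul, map_mul]
      rw [← map_inv, J_inv] at hw
      rw [show L (up c') = π (eEl C f 0 c) from lHom_up_mk C f c']
      exact hw
    have hω : dg c'⁻¹ (inv_ne_zero hc0) * jSL ∈ K.comap L := by
      convert mul_mem (mul_mem (hup c'⁻¹) hlow) (hup c'⁻¹) using 1
      apply ext2 <;> simp [mul_apply2, jSL_coe, up_val, dg_val, hc0, CharTwo.neg_eq,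
        CharTwo.add_self_eq_zero]
    have htop : K.comap L = ⊤ := eq_top_of_up_low hup fun x => by
      set ω := dg c'⁻¹ (inv_ne_zero hc0) * jSL
      have e : ω * up (x * (c'⁻¹ * c'⁻¹)) = low x * ω := by
        apply ext2 <;> simp [ω, mul_apply2, jSL_coe, up_val, dg_val, low_val, CharTwo.neg_eq] <;>
          field_simp
      have := mul_mem (mul_mem hω (hup (x * (c'⁻¹ * c'⁻¹)))) (inv_mem hω)
      rwa [e, mul_inv_cancel_right] at this
    have : jSL ∈ K.comap L := by rw [htop]; trivial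
    exact this
  extra := by
    classical
    have hcard := card_fixK C.herm.conj C.frob C.card
    obtain ⟨k, hk0, hk1⟩ : ∃ k : fixK σ, k ≠ 0 ∧ k ≠ 1 := by
      by_contra hall
      push Not at hall
      have : Fintype (fixK σ) := Fintype.ofFinite _
      have h2 : (Finset.univ : Finset (fixK σ)) ⊆ {0, 1} := fun k _ => by
        rcases eq_or_ne k 0 with h | h
        · simp [h]
        · simp [hall k h]
      have := (Finset.card_le_card h2).trans Finset.card_le_two
      rw [Finset.card_univ, ← Nat.card_eq_fintype_card, hcard] at this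
      omega
    set a := Units.mk0 (k : F) (Subtype.coe_injective.ne hk0)
    refine ⟨torusHom C f a, ⟨a, rfl⟩, fun h => ?_, fun K hK hwK => ?_⟩
    · obtain ⟨b, hb, hl⟩ := center_torus C f ((QuotientGroup.eq_one_iff _).1 h)
      have hab := congrArg (fun g => ap g f.v) hb
      simp only [hHom_apply, (hEl_apply C f _).1] at hab
      rw [← smul_left_injective F f.v_ne_zero hab] at hl
      rw [show (a : F) = (k : F) from rfl, lamM_fixK k.2] at hl
      exact hk1 (Subtype.ext hl)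
    set L := (π).comp (lHom C f one_ne_zero sigma_one) with hL
    have hup : ∀ k, up k ∈ K.comap L := fun k => hK ⟨_, k.2, (lHom_up_mk C f k).symm⟩
    have htop : K.comap L = ⊤ := eq_top_of_up_low hup fun x => by
      have e : low x = jSL * up x * jSL := by
        apply ext2 <;> simp [mul_apply2, jSL_coe, up_val, low_val, CharTwo.neg_eq]
      rw [e]
      show L _ ∈ K
      have := hwK _ ⟨_, x.2, rfl⟩
      rw [← map_inv, J_inv] at this
      rw [map_mul, map_mul]
      rw [show L (up x) = π (eEl C f 0 (x : F)) from lHom_up_mk C f x]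
      exact this
    have : dg k hk0 ∈ K.comap L := by rw [htop]; trivial
    show π (hEl C f a) ∈ K
    rw [← lHom_dg C f one_ne_zero sigma_one hk0]
    exact this
  four := by
    rintro _ ⟨t, c, h, rfl⟩ hsZ H hsH -
    have ht : t ≠ 0 := fun e => hsZ ((mem_Zg_iff C f h).2 e)
    obtain ⟨g, hg, h3, hs3⟩ := exists_triangle C f (by omega) ht h
    set s := eEl C f t c
    have hg2 : g ^ 2 = g⁻¹ := eq_inv_of_mul_eq_one_right (by rw [← pow_succ']; exact h3)
    refine ⟨π (g ^ 2), π g, π (g ^ 2 * s⁻¹ * (g ^ 2)⁻¹), fun hm => hg ?_,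
      fun hm => hg ((mem_M_iff C f).1 hm), ?_, ?_⟩
    · rw [mem_M_iff C f, hg2, inv_mem_iff] at hm
      exact hm
    · simp only [← map_inv, ← map_mul]
      rw [show (g ^ 2)⁻¹ * (g ^ 2 * s⁻¹ * (g ^ 2)⁻¹) * g ^ 2 = s⁻¹ by group, map_inv]
      exact inv_mem hsH
    · simp only [← map_inv, ← map_mul]
      have e : g⁻¹ * (s⁻¹ * (g ^ 2 * s⁻¹ * (g ^ 2)⁻¹)) * g = s := by
        rw [hg2]
        have h' : s * g * s * g * s * g = 1 := by
          rw [← hs3, pow_succ, pow_two]; simp only [mul_assoc]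
        calc g⁻¹ * (s⁻¹ * (g⁻¹ * s⁻¹ * g⁻¹⁻¹)) * g
            = g⁻¹ * s⁻¹ * g⁻¹ * s⁻¹ * g ^ 2 := by rw [pow_two]; group
          _ = (s * g * s * g * s * g)⁻¹ * s * (g * g ^ 2) := by group
          _ = s := by rw [h', ← pow_succ', h3, inv_one, one_mul, mul_one]
      rw [e]
      exact hsH
  central := by
    rintro _ ⟨a, rfl⟩ hd hcm
    have h1 : Adm C 0 1 := (adm_fixed C).2 (map_one σ)
    have norm_one : ∀ b : Fˣ, (∀ z ∈ Zg C f, Commute (torusHom C f b) z) → (b : F) * σ b = 1 := by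
      intro b hb
      have e := mul_inv_eq_iff_eq_mul.2 (hb _ ⟨1, map_one σ, rfl⟩)
      rw [conj_root C f h1, mk_eq_iff C f (adm_scale C h1 b) h1, mul_one] at e
      exact e.2
    have hn := norm_one a hcm
    have ha := a.ne_zero
    have hsa := sigma_ne_zero C ha
    have ha1 : (a : F) ≠ 1 := fun e => hd (by rw [show a = 1 from Units.ext e, map_one])
    set c : F := (a : F) + 1 with hc
    obtain ⟨t, ht⟩ := C.herm.conj.exists_norm_eq
      (show σ (c + σ c) = c + σ c by rw [map_add, C.herm.conj.invol, add_comm])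
    have h : Adm C t c := by rw [adm_iff, mul_comm]; exact ht.symm
    have h' : Adm C (t / a) (c / a) := by
      have e := (adm_iff C).1 h
      simp only [hc, map_add, map_one] at e
      rw [adm_iff, map_div₀, map_div₀, hc, map_add, map_one]
      field_simp
      grind
    refine ⟨_, ⟨t, c, h, rfl⟩, _, ⟨t / a, c / a, h', rfl⟩, _, ⟨1, map_one σ, rfl⟩, ?_, ?_⟩
    · set Y := J C f * eEl C f 0 1 * J C f with hY
      obtain ⟨Yv, Yw, Ys⟩ := lower_apply C f (τ := (1 : F)) (map_one σ)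
      set x := J C f * ((eEl C f (t / a) (c / a))⁻¹ * Y * eEl C f t c) * J C f with hx
      have hv : ap x f.v = (a : F) • f.v := by
        rw [hx, ap_mul, ap_mul, (J_apply C f).1, ap_mul, ap_mul, (eEl_apply C f h).2.2]
        rw [show ap (eEl C f (t / a) (c / a))⁻¹ (ap Y (f.s + t • f.w + c • f.v)) = (a : F) • f.s from
          ap_inv_of (by
            rw [ap_smul, (eEl_apply C f h').2.2]
            simp only [ap, map_add, map_smul] at Yv Yw Ys ⊢
            rw [show Y.1.1 f.v = _ from Yv, show Y.1.1 f.w = _ from Yw, show Y.1.1 f.s = _ from Ys]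
            match_scalars <;> (try simp only [hc]) <;> field_simp <;> grind),
          ap_smul, (J_apply C f).2.2]
      obtain ⟨t₂, c₂, a₂, h₂, e⟩ := borel_cases C f (⟨a, hv⟩ : x ∈ borel f C)
      have hx2 := hv
      rw [e, ap_mul, (hEl_apply C f a₂).1, ap_smul, (eEl_apply C f h₂).1] at hx2
      have ha₂ : a₂ = a := Units.ext (smul_left_injective F f.v_ne_zero hx2)
      refine ⟨_, ⟨t₂, c₂, h₂, rfl⟩, 1, ?_⟩
      rw [zpow_one, torusHom_apply,
        show π (eEl C f t₂ c₂) * π (hEl C f a) = π x by rw [← map_mul, e, ha₂], hx, hY]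
      have hJ : (π (J C f))⁻¹ = π (J C f) := by rw [← map_inv, J_inv]
      simp only [map_mul, map_inv, hJ]
    · rintro _ ⟨b, rfl⟩ hb heq
      rw [conj_root C f h, mk_eq_iff C f (adm_scale C h b) h', norm_one b hb, one_mul] at heq
      have hc0 : c ≠ 0 := fun e => ha1 (CharTwo.add_eq_zero.1 e)
      exact ha1 (mul_left_cancel₀ hc0 (by
        rw [mul_one]
        conv_lhs => rw [heq.2, div_mul_cancel₀ _ ha]))

end U3Model

end CfsgLib.Perm.BinaryOneClass
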