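import Cfsg.Agent.Lib.Perm.BinaryOneClass.ModelSL2
import Cfsg.Agent.Lib.Perm.BinaryOneClass.ModelSz
import Cfsg.Agent.Lib.Perm.BinaryOneClass.ModelU3
import Cfsg.Agent.Lib.Involution.SEModule.Main
import Cfsg.Agent.Lib.KnownA.MinIndexU3.NoTransv
import Cfsg.Agent.Lib.KnownC.AutPSU.Main
import Cfsg.Prelude.Def_Classical
import Cfsg.Prelude.Def_Sz

/-!
# Binary coset actions of simple groups with one class of involutions

Granted the structural form of Bender's theorem for the group.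
-/

set_option autoImplicit false
set_option linter.unusedSectionVars false
set_option linter.style.haveILetI false

namespace CfsgLib.Perm.BinaryOneClass

open CfsgLib.Involution.SEModule (BenderStructure)

theorem charP_two {F : Type*} [Field F] [Fintype F] {n : ℕ} (h : Fintype.card F = 2 ^ n) :
    CharP F 2 := by
  obtain ⟨p, hp⟩ := CharP.exists F
  obtain ⟨k, hpp, hk⟩ := FiniteField.card F p
  have h2 : p = 2 := (Nat.prime_dvd_prime_iff_eq hpp Nat.prime_two).1
    (hpp.dvd_of_dvd_pow (h ▸ hk ▸ dvd_pow_self p k.pos.ne'))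
  exact h2 ▸ hp

theorem exists_two_pow {F : Type*} [Field F] [Fintype F] {q : ℕ} (hq : Even q)
    (hF : Fintype.card F = q ^ 2) : ∃ n, q = 2 ^ n := by
  obtain ⟨p, hp⟩ := CharP.exists F
  obtain ⟨k, hpp, hk⟩ := FiniteField.card F p
  have h2 : 2 = p := (Nat.prime_dvd_prime_iff_eq Nat.prime_two hpp).1
    (Nat.prime_two.dvd_of_dvd_pow (hk ▸ hF ▸ dvd_pow (even_iff_two_dvd.1 hq) two_ne_zero))
  subst h2
  obtain ⟨n, -, hn⟩ := (Nat.dvd_prime_pow Nat.prime_two).1
    (show q ∣ 2 ^ (k : ℕ) by rw [← hk, hF, pow_two]; exact dvd_mul_left q q)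
  exact ⟨n, hn⟩

section Frame

variable {G : Type*} [Group G] [Finite G] {X : Type*} [Group X] [Finite X]

/-- The Sylow subgroup of a frame, pulled back. -/
noncomputable def Frame.sylow (F : Frame X) (φ : G ≃* X) : Sylow 2 G :=
  haveI : Fact (Nat.Prime 2) := ⟨Nat.prime_two⟩
  (F.isP.comap_of_injective φ.toMonoidHom φ.injective).toSylow (by
    rw [Subgroup.index_comap_of_surjective _ φ.surjective]; exact F.index_odd)

theorem Frame.mem_sylow (F : Frame X) (φ : G ≃* X) {x : G} :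
    x ∈ (F.sylow φ : Subgroup G) ↔ φ x ∈ F.S := Iff.rfl

/-- Every Sylow subgroup is the pullback of that of the frame. -/
theorem Frame.exists_of_sylow (F : Frame X) (e : G ≃* X) (P : Sylow 2 G) :
    ∃ φ : G ≃* X, ∀ x, x ∈ (P : Subgroup G) ↔ φ x ∈ F.S := by
  have : Fact (Nat.Prime 2) := ⟨Nat.prime_two⟩
  obtain ⟨g, rfl⟩ := MulAction.exists_smul_eq G (F.sylow e) P
  refine ⟨(MulAut.conj g⁻¹).trans e, fun x => ?_⟩
  rw [Sylow.coe_subgroup_smul, Subgroup.mem_pointwise_smul_iff_inv_smul_mem, F.mem_sylow e]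
  simp

/-- The involution-fixing condition singles out `Z`. -/
theorem Frame.isBinary_iff [IsSimpleGroup G] (F : Frame X) (e : G ≃* X)
    (hone : ∀ s t : G, orderOf s = 2 → orderOf t = 2 → IsConj s t)
    {H : Subgroup G} (hH : H ≠ ⊤) (heven : Even (Nat.card H)) :
    IsBinary G (G ⧸ H) ↔ ∃ φ : G ≃* X, ∀ x, x ∈ H ↔ φ x ∈ F.Z := by
  constructor
  · intro hb
    obtain ⟨t, htH, ht⟩ := CfsgLib.Involution.Basic.exists_involution_of_even _ heven
    have : Fact (Nat.Prime 2) := ⟨Nat.prime_two⟩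
    have hp : IsPGroup 2 (Subgroup.zpowers (e t)) :=
      IsPGroup.of_card (n := 1) (by rw [Nat.card_zpowers, MulEquiv.orderOf_eq, ht, pow_one])
    obtain ⟨Q, hQ⟩ := hp.exists_le_sylow
    obtain ⟨x, rfl⟩ := MulAction.exists_smul_eq X (F.isP.toSylow F.index_odd) Q
    have hs := hQ (Subgroup.mem_zpowers (e t))
    rw [Sylow.coe_subgroup_smul, Subgroup.mem_pointwise_smul_iff_inv_smul_mem] at hs
    set φ : G ≃* X := e.trans (MulAut.conj x⁻¹) with hφ
    have hφt : φ t = x⁻¹ * e t * x := by simp [hφ]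
    have hsS : φ t ∈ F.S := by rw [hφt]; simpa using hs
    have hφ2 : orderOf (φ t) = 2 := by rw [MulEquiv.orderOf_eq, ht]
    haveI : IsSimpleGroup X := φ.isSimpleGroup_congr.1 inferInstance
    have honeX : ∀ a b : X, orderOf a = 2 → orderOf b = 2 → IsConj a b := fun a b ha hb' => by
      have := φ.toMonoidHom.map_isConj (hone (φ.symm a) (φ.symm b)
        (by rw [MulEquiv.orderOf_eq, ha]) (by rw [MulEquiv.orderOf_eq, hb']))
      simpa using this
    have hmem : ∀ g, φ g ∈ H.map φ.toMonoidHom ↔ g ∈ H :=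
      fun g => Subgroup.mem_map_iff_mem φ.injective
    have hH' : H.map φ.toMonoidHom ≠ ⊤ := fun h => hH (eq_top_iff.2 fun g _ =>
      (hmem g).1 (h ▸ Subgroup.mem_top _))
    have hZ := F.eq_Z honeX hH' (hb.transfer φ hmem)
      ((F.mem_Z _ hsS).1 (CfsgLib.Involution.Dihedral.mul_self hφ2))
      (CfsgLib.Involution.Dihedral.ne_one hφ2) ((hmem t).2 htH)
    exact ⟨φ, fun g => by rw [← hmem g, hZ]⟩
  · rintro ⟨φ, hφ⟩
    refine IsBinary.transfer (H := F.Z) φ.symm (fun g => by rw [hφ, φ.apply_symm_apply]) ?_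
    refine isBinary_of_closed (fun h hh => (F.mem_Z h (F.Z_le hh)).2 hh) fun h hh h1 u hu huh => ?_
    refine F.involution_mem_Z (F.mem_M_of_conj_Z hh h1 ?_) (CfsgLib.Involution.Dihedral.mul_self hu)
    rw [huh.eq, mul_inv_cancel_right]
    exact F.S_le_M (F.Z_le hh)

theorem mem_center_map_iff {P : Subgroup G} {x : G} :
    x ∈ (Subgroup.center P).map P.subtype ↔ x ∈ P ∧ ∀ y ∈ P, y * x = x * y := by
  constructor
  · rintro ⟨⟨x, hx⟩, hc, rfl⟩
    exact ⟨hx, fun y hy => congrArg Subtype.val (Subgroup.mem_center_iff.1 hc ⟨y, hy⟩)⟩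
  · rintro ⟨hx, hc⟩
    exact ⟨⟨x, hx⟩, Subgroup.mem_center_iff.2 fun y => Subtype.ext (hc y y.2), rfl⟩

/-- The point stabiliser as the centre of a Sylow subgroup. -/
theorem Frame.center_iff (F : Frame X) (e : G ≃* X)
    (hc : ∀ s ∈ F.S, (∀ t ∈ F.S, t * s = s * t) → s ∈ F.Z) (H : Subgroup G) :
    (∃ φ : G ≃* X, ∀ x, x ∈ H ↔ φ x ∈ F.Z) ↔
      ∃ P : Sylow 2 G, H = (Subgroup.center (P : Subgroup G)).map (P : Subgroup G).subtype := by
  have key : ∀ (φ : G ≃* X) (P : Subgroup G), (∀ x, x ∈ P ↔ φ x ∈ F.S) →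
      ∀ x, x ∈ (Subgroup.center P).map P.subtype ↔ φ x ∈ F.Z := by
    intro φ P hP x
    rw [mem_center_map_iff]
    constructor
    · rintro ⟨hx, hcx⟩
      refine hc _ ((hP x).1 hx) fun t ht => ?_
      have := congrArg φ (hcx (φ.symm t) ((hP _).2 (by rwa [φ.apply_symm_apply])))
      simpa using this
    · intro hx
      refine ⟨(hP x).2 (F.Z_le hx), fun y hy => φ.injective ?_⟩
      rw [map_mul, map_mul, F.Z_comm _ ((hP y).1 hy) _ hx]
  constructor
  · rintro ⟨φ, hφ⟩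
    exact ⟨F.sylow φ, SetLike.ext fun x =>
      (hφ x).trans (key φ _ (fun y => F.mem_sylow φ) x).symm⟩
  · rintro ⟨P, rfl⟩
    obtain ⟨φ, hφ⟩ := F.exists_of_sylow e P
    exact ⟨φ, key φ _ hφ⟩

/-- The point stabiliser as a Sylow subgroup. -/
theorem Frame.sylow_iff (F : Frame X) (e : G ≃* X) (hc : F.Z = F.S) (H : Subgroup G) :
    (∃ φ : G ≃* X, ∀ x, x ∈ H ↔ φ x ∈ F.Z) ↔ ∃ P : Sylow 2 G, H = P := by
  rw [hc]
  constructor
  · rintro ⟨φ, hφ⟩
    exact ⟨F.sylow φ, SetLike.ext fun x => (hφ x).trans (F.mem_sylow φ).symm⟩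
  · rintro ⟨P, rfl⟩
    exact F.exists_of_sylow e P

end Frame

theorem U3Model.center_Ug {F : Type*} [Field F] [Fintype F] [CharP F 2] {V : Type*}
    [AddCommGroup V] [Module F V] [FiniteDimensional F V] {σ : F →+* F}
    {B : V →ₛₗ[σ] V →ₗ[F] F} {q : ℕ} (C : CfsgLib.KnownA.MinIndexU3.U3 B q)
    (f : CfsgLib.KnownA.MinIndexU3.Fr B) :
    ∀ s ∈ U3Model.Ug C f, (∀ u ∈ U3Model.Ug C f, u * s = s * u) → s ∈ U3Model.Zg C f := by
  rintro _ ⟨t, c, h, rfl⟩ hs
  rw [U3Model.mem_Zg_iff C f h]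
  have key : ∀ u : F, σ u * t = σ t * u := by
    intro u
    obtain ⟨l, hl⟩ := C.herm.conj.exists_not_fixed
    have hd : l + σ l ≠ 0 := fun e => hl (CharTwo.add_eq_zero.1 e).symm
    have h' : CfsgLib.SU3Pres.Adm C u (l * (σ u * u / (l + σ l))) := by
      have hk : σ (σ u * u / (l + σ l)) = σ u * u / (l + σ l) := by
        rw [map_div₀, map_mul, map_add, C.herm.conj.invol, C.herm.conj.invol, add_comm (σ l),
          mul_comm u]
      rw [U3Model.adm_iff, map_mul, hk, ← add_mul, mul_div_cancel₀ _ hd]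
    have e := hs _ ⟨u, _, h', rfl⟩
    rw [← map_mul, ← map_mul, CfsgLib.SU3Pres.eEl_mul C f h' h,
      CfsgLib.SU3Pres.eEl_mul C f h h',
      U3Model.mk_eq_iff C f (CfsgLib.SU3Pres.adm_add C h' h) (CfsgLib.SU3Pres.adm_add C h h')] at e
    linear_combination -e.2
  obtain ⟨l, hl⟩ := C.herm.conj.exists_not_fixed
  have h1 : σ t = t := by simpa using (key 1).symm
  have h2 := key l
  rw [h1] at h2
  by_contra ht
  exact hl (mul_right_cancel₀ ht (by linear_combination h2))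

section Main

variable {G : Type*} [Group G] [Finite G] [IsSimpleGroup G]
  (hone : ∀ s t : G, orderOf s = 2 → orderOf t = 2 → IsConj s t)
  {H : Subgroup G} (hH : H ≠ ⊤) (heven : Even (Nat.card H))

include hone hH heven

theorem sl_iff {F : Type} [Field F] [Fintype F] {a : ℕ} (ha : 2 ≤ a)
    (hF : Fintype.card F = 2 ^ a) (e : G ≃* Matrix.SpecialLinearGroup (Fin 2) F) :
    IsBinary G (G ⧸ H) ↔ ∃ P : Sylow 2 G, H = P := by
  haveI := charP_two hF
  have h4 : 4 ≤ Fintype.card F := hF ▸ Nat.pow_le_pow_right two_pos ha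
  exact ((SL2Model.frame h4).isBinary_iff e hone hH heven).trans
    ((SL2Model.frame h4).sylow_iff e rfl H)

theorem sz_iff {F : Type} [Field F] [Fintype F] {m : ℕ} (hm : 1 ≤ m)
    (hF : Fintype.card F = 2 ^ (2 * m + 1)) (e : G ≃* Cfsg.Lie.Sz F (2 ^ (m + 1))) :
    IsBinary G (G ⧸ H) ↔
      ∃ P : Sylow 2 G, H = (Subgroup.center (P : Subgroup G)).map (P : Subgroup G).subtype := by
  have he := CfsgLib.KnownB.SzElem.twist_of_card hF
  have hq := CfsgLib.KnownB.Suzuki.exists_unit_ne_one hm hF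
  refine ((SzModel.frame he hq).isBinary_iff e hone hH heven).trans
    ((SzModel.frame he hq).center_iff e (fun s hs hc => ?_) H)
  obtain ⟨b, hb⟩ := (CfsgLib.KnownB.Suzuki.sylow_center he
    (CfsgLib.KnownB.Suzuki.exists_pow_ne he hm hF) ⟨s, hs⟩).1
      (Subgroup.mem_center_iff.2 fun u => Subtype.ext (hc u u.2))
  exact ⟨b, hb.symm⟩

theorem psu_iff {F : Type} [Field F] [Fintype F] {a : ℕ} (ha : 2 ≤ a)
    (hF : Fintype.card F = (2 ^ a) ^ 2) (e : G ≃* Cfsg.PSU 3 F (2 ^ a)) :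
    IsBinary G (G ⧸ H) ↔
      ∃ P : Sylow 2 G, H = (Subgroup.center (P : Subgroup G)).map (P : Subgroup G).subtype := by
  haveI := charP_two (n := a * 2) (by rw [hF, pow_mul])
  haveI : Fact (Fintype.card F = (2 ^ a) ^ 2) := ⟨hF⟩
  obtain ⟨σ, hσ, hc⟩ := CfsgLib.Classical.exists_frob hF
  have C : CfsgLib.KnownA.MinIndexU3.U3 (CfsgLib.Classical.stdHerm σ 3) (2 ^ a) :=
    ⟨CfsgLib.Classical.stdHerm_isHermitian hc 3, CfsgLib.Classical.stdHerm_sepRight 3,
      Module.finrank_fin_fun F, hF, hσ⟩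
  obtain ⟨f, -⟩ := CfsgLib.KnownA.MinIndexU3.exists_frame C
  have hq : 4 ≤ 2 ^ a := Nat.pow_le_pow_right two_pos ha
  set e' := e.trans (CfsgLib.KnownC.AutPSU.pgEquiv (n := 3) hσ)
  haveI := Finite.of_equiv G e'.toEquiv
  exact ((U3Model.frame C f hq).isBinary_iff e' hone hH heven).trans
    ((U3Model.frame C f hq).center_iff e' (U3Model.center_Ug C f) H)

omit heven hH in
/-- Bender's alternatives for a simple group with a binary action of this kind. -/
theorem cases_of_structure {t : G} (ht : orderOf t = 2) (hB : BenderStructure G)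
    (hG : ¬ IsMulCommutative G) :
    (∃ (F : Type) (_ : Field F) (_ : Fintype F) (a : ℕ), 2 ≤ a ∧ Fintype.card F = 2 ^ a ∧
        Nonempty (G ≃* Matrix.SpecialLinearGroup (Fin 2) F)) ∨
      Cfsg.Lie.IsoSuzuki G ∨
      (∃ (F : Type) (_ : Field F) (_ : Fintype F) (a : ℕ), 2 ≤ a ∧ Fintype.card F = (2 ^ a) ^ 2 ∧
        Nonempty (G ≃* Cfsg.PSU 3 F (2 ^ a))) := by
  classical
  have hev : 2 ∣ Nat.card G := ht ▸ orderOf_dvd_natCard t
  haveI : Fact (Nat.Prime 2) := ⟨Nat.prime_two⟩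
  haveI : (Cfsg.pPrimeCore 2 G).Normal := CfsgLib.Solvable.Cores.pPrimeCore_normal 2
  have hcore : Cfsg.pPrimeCore 2 G = ⊥ := by
    rcases (inferInstance : (Cfsg.pPrimeCore 2 G).Normal).eq_bot_or_eq_top with h | h
    · exact h
    · have hc := CfsgLib.Solvable.Cores.coprime_card_pPrimeCore (G := G) 2
      rw [h, Subgroup.card_top] at hc
      exact absurd (Nat.eq_one_of_dvd_coprimes hc hev dvd_rfl) (by norm_num)
  set q := QuotientGroup.mk' (Cfsg.pPrimeCore 2 G) with hq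
  set L := Cfsg.pElementClosure 2 (⊤ : Subgroup (G ⧸ Cfsg.pPrimeCore 2 G)) with hL
  have hLtop : L.comap q = ⊤ := by
    haveI : L.Normal := ⟨fun x hx y => by
      have hle : L ≤ L.comap (MulAut.conj y).toMonoidHom := by
        rw [hL, Cfsg.pElementClosure, Subgroup.closure_le]
        rintro z ⟨-, j, hj⟩
        exact Subgroup.subset_closure
          ⟨Subgroup.mem_top _, j, by rw [← hj]; exact MulEquiv.orderOf_eq _ _⟩
      exact hle hx⟩
    refine (inferInstance : (L.comap q).Normal).eq_bot_or_eq_top.resolve_left fun h => ?_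
    have htm : t ∈ L.comap q := by
      obtain ⟨j, -, hj⟩ := (Nat.dvd_prime_pow Nat.prime_two).1
        (((orderOf_map_dvd q t).trans (dvd_of_eq ht)).trans (dvd_of_eq (pow_one 2).symm))
      exact Subgroup.subset_closure ⟨Subgroup.mem_top _, j, hj⟩
    rw [h, Subgroup.mem_bot] at htm
    rw [htm, orderOf_one] at ht
    omega
  let e : G ≃* ↥L := MulEquiv.ofBijective (q.codRestrict L
    (fun x => by rw [← Subgroup.mem_comap, hLtop]; exact Subgroup.mem_top x)) ⟨fun x y h => by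
      have h' := QuotientGroup.eq.1 (congrArg Subtype.val h)
      rw [hcore, Subgroup.mem_bot, inv_mul_eq_one] at h'
      exact h', fun y => by
      obtain ⟨x, hx⟩ := QuotientGroup.mk'_surjective _ (y : G ⧸ Cfsg.pPrimeCore 2 G)
      exact ⟨x, Subtype.ext hx⟩⟩
  rcases hB with h | ⟨F, _, _, _, h4, ⟨e'⟩⟩ | ⟨F, _, _, r, hr, h4, hF, ⟨e'⟩⟩ |
    ⟨F, _, _, m, hm, hF, ⟨e'⟩⟩
  · exfalso
    obtain ⟨htop, -⟩ := h t ht
    rw [hcore, bot_sup_eq] at htop
    have hcen : t ∈ Subgroup.center G := Subgroup.mem_center_iff.2 fun g =>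
      Subgroup.mem_centralizer_singleton_iff.1 (htop ▸ Subgroup.mem_top g)
    rcases (inferInstance : (Subgroup.center G).Normal).eq_bot_or_eq_top with h' | h'
    · rw [h', Subgroup.mem_bot] at hcen
      rw [hcen, orderOf_one] at ht
      omega
    · exact hG ⟨⟨fun a b => Subgroup.mem_center_iff.1 (h' ▸ Subgroup.mem_top b) a⟩⟩
  · obtain ⟨n, -, hn⟩ := FiniteField.card F 2
    refine Or.inl ⟨F, inferInstance, inferInstance, n, ?_, hn, ⟨e.trans e'⟩⟩
    by_contra hc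
    have : 2 ^ (n : ℕ) ≤ 2 ^ 1 := Nat.pow_le_pow_right two_pos (by omega)
    omega
  · obtain ⟨n, rfl⟩ := exists_two_pow hr hF
    refine Or.inr (Or.inr ⟨F, inferInstance, inferInstance, n, ?_, hF, ⟨e.trans e'⟩⟩)
    by_contra hc
    have : 2 ^ n ≤ 2 ^ 1 := Nat.pow_le_pow_right two_pos (by omega)
    omega
  · exact Or.inr (Or.inl ⟨F, inferInstance, inferInstance, m, hm, hF, ⟨e.trans e'⟩⟩)

/-- The classification, granted Bender's theorem for `G`. -/
theorem isBinary_iff_of_bender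
    (hB : ∀ M : Subgroup G, Cfsg.IsStronglyPEmbedded 2 M → BenderStructure G) :
    IsBinary G (G ⧸ H) ↔
      (((∃ (F : Type) (_ : Field F) (_ : Fintype F) (a : ℕ), 2 ≤ a ∧ Fintype.card F = 2 ^ a ∧
            Nonempty (G ≃* Matrix.SpecialLinearGroup (Fin 2) F)) ∧ ∃ P : Sylow 2 G, H = P) ∨
        (Cfsg.Lie.IsoSuzuki G ∧
          ∃ P : Sylow 2 G, H = (Subgroup.center (P : Subgroup G)).map (P : Subgroup G).subtype) ∨
        ((∃ (F : Type) (_ : Field F) (_ : Fintype F) (a : ℕ), 2 ≤ a ∧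
            Fintype.card F = (2 ^ a) ^ 2 ∧ Nonempty (G ≃* Cfsg.PSU 3 F (2 ^ a))) ∧
          ∃ P : Sylow 2 G, H = (Subgroup.center (P : Subgroup G)).map (P : Subgroup G).subtype)) := by
  constructor
  · intro hb
    obtain ⟨t, htH, ht⟩ := CfsgLib.Involution.Basic.exists_involution_of_even _ heven
    have hG : ¬ IsMulCommutative G := fun hc => by
      haveI := hc
      haveI : H.Normal := ⟨fun h hh g => by
        rwa [mul_comm' g h, mul_inv_cancel_right]⟩
      rcases (inferInstance : H.Normal).eq_bot_or_eq_top with h | h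
      · rw [h, Subgroup.mem_bot] at htH
        exact CfsgLib.Involution.Dihedral.ne_one ht htH
      · exact hH h
    rcases cases_of_structure hone ht (hB _ (fixStab_stronglyPEmbedded hone hH hb ht htH)) hG with
      ⟨F, _, _, a, ha, hF, ⟨e⟩⟩ | ⟨F, _, _, m, hm, hF, ⟨e⟩⟩ | ⟨F, _, _, a, ha, hF, ⟨e⟩⟩
    · exact Or.inl ⟨⟨F, inferInstance, inferInstance, a, ha, hF, ⟨e⟩⟩,
        (sl_iff hone hH heven ha hF e).1 hb⟩
    · exact Or.inr (Or.inl ⟨⟨F, inferInstance, inferInstance, m, hm, hF, ⟨e⟩⟩,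
        (sz_iff hone hH heven hm hF e).1 hb⟩)
    · exact Or.inr (Or.inr ⟨⟨F, inferInstance, inferInstance, a, ha, hF, ⟨e⟩⟩,
        (psu_iff hone hH heven ha hF e).1 hb⟩)
  · rintro (⟨⟨F, _, _, a, ha, hF, ⟨e⟩⟩, hP⟩ | ⟨⟨F, _, _, m, hm, hF, ⟨e⟩⟩, hP⟩ |
      ⟨⟨F, _, _, a, ha, hF, ⟨e⟩⟩, hP⟩)
    · exact (sl_iff hone hH heven ha hF e).2 hP
    · exact (sz_iff hone hH heven hm hF e).2 hP
    · exact (psu_iff hone hH heven ha hF e).2 hP

end Main

end CfsgLib.Perm.BinaryOneClass
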