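import Cfsg.Agent.Lib.Perm.BinaryOneClass.Frame
import Cfsg.Agent.Lib.Classical.SL2Sylow

/-!
# The frame of `SL₂` in characteristic two
-/

set_option autoImplicit false
set_option linter.unusedSectionVars false

namespace CfsgLib.Perm.BinaryOneClass.SL2Model

open scoped MatrixGroups

variable (F : Type*) [Field F]

/-- Upper unitriangular elements. -/
def U : Subgroup SL(2, F) where
  carrier := {g | g.1 1 0 = 0 ∧ g.1 0 0 = 1 ∧ g.1 1 1 = 1}
  one_mem' := by simp
  mul_mem' {a b} ha hb := by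
    simp only [Set.mem_ofPred_eq, Matrix.SpecialLinearGroup.coe_mul, Matrix.mul_apply,
      Fin.sum_univ_two] at *
    simp [ha, hb]
  inv_mem' {a} ha := by
    simp only [Set.mem_ofPred_eq, Matrix.SpecialLinearGroup.coe_inv, Matrix.adjugate_fin_two] at *
    simp [ha]

/-- Diagonal elements. -/
def T : Subgroup SL(2, F) where
  carrier := {g | g.1 1 0 = 0 ∧ g.1 0 1 = 0}
  one_mem' := by simp
  mul_mem' {a b} ha hb := by
    simp only [Set.mem_ofPred_eq, Matrix.SpecialLinearGroup.coe_mul, Matrix.mul_apply,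
      Fin.sum_univ_two] at *
    simp [ha, hb]
  inv_mem' {a} ha := by
    simp only [Set.mem_ofPred_eq, Matrix.SpecialLinearGroup.coe_inv, Matrix.adjugate_fin_two] at *
    simp [ha]

/-- Upper triangular elements. -/
def B : Subgroup SL(2, F) where
  carrier := {g | g.1 1 0 = 0}
  one_mem' := by simp
  mul_mem' {a b} ha hb := by
    simp only [Set.mem_ofPred_eq, Matrix.SpecialLinearGroup.coe_mul, Matrix.mul_apply,
      Fin.sum_univ_two] at *
    simp [ha, hb]
  inv_mem' {a} ha := by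
    simp only [Set.mem_ofPred_eq, Matrix.SpecialLinearGroup.coe_inv, Matrix.adjugate_fin_two] at *
    simp [ha]

/-- The flip. -/
def flip : SL(2, F) := ⟨!![0, 1; -1, 0], by simp [Matrix.det_fin_two]⟩

/-- An upper transvection. -/
def up (b : F) : SL(2, F) := ⟨!![1, b; 0, 1], by simp [Matrix.det_fin_two]⟩

/-- A diagonal element. -/
def dg (a : Fˣ) : SL(2, F) := ⟨!![(a : F), 0; 0, ((a⁻¹ : Fˣ) : F)], by simp [Matrix.det_fin_two]⟩

/-- A lower transvection. -/
def low (c : F) : SL(2, F) := ⟨!![1, 0; c, 1], by simp [Matrix.det_fin_two]⟩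

variable {F}

@[simp] theorem coe_up (b : F) : (up F b).1 = !![1, b; 0, 1] := rfl

@[simp] theorem coe_low (b : F) : (low F b).1 = !![1, 0; b, 1] := rfl

@[simp] theorem coe_dg (a : Fˣ) : (dg F a).1 = !![(a : F), 0; 0, ((a⁻¹ : Fˣ) : F)] := rfl

@[simp] theorem coe_flip : (flip F).1 = !![0, 1; -1, 0] := rfl

theorem up_mem (b : F) : up F b ∈ U F := ⟨rfl, rfl, rfl⟩

theorem dg_mem (a : Fˣ) : dg F a ∈ T F := ⟨rfl, rfl⟩

theorem det_eq (g : SL(2, F)) : g.1 0 0 * g.1 1 1 - g.1 0 1 * g.1 1 0 = 1 := by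
  rw [← Matrix.det_fin_two]; exact g.2

theorem eq_up {g : SL(2, F)} (hg : g ∈ U F) : g = up F (g.1 0 1) := by
  obtain ⟨h1, h2, h3⟩ := hg
  ext i j
  fin_cases i <;> fin_cases j <;> simp [h1, h2, h3]

theorem eq_dg {g : SL(2, F)} (hg : g ∈ T F) : ∃ a : Fˣ, g = dg F a := by
  obtain ⟨h1, h2⟩ := hg
  have hd := det_eq g
  rw [h1, h2, mul_zero, sub_zero] at hd
  refine ⟨Units.mkOfMulEqOne _ _ hd, ?_⟩
  ext i j
  fin_cases i <;> fin_cases j <;> simp [h1, h2]
  exact (inv_eq_of_mul_eq_one_right hd).symm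

theorem up_mul (b c : F) : up F b * up F c = up F (b + c) := by
  ext i j
  fin_cases i <;> fin_cases j <;> simp [Matrix.mul_apply, add_comm]

theorem dg_conj_up (a : Fˣ) (b : F) : dg F a * up F b * (dg F a)⁻¹ = up F (a * a * b) := by
  rw [mul_inv_eq_iff_eq_mul]
  ext i j
  fin_cases i <;> fin_cases j <;> simp [Matrix.mul_apply] <;> field_simp

/-- The upper unitriangular subgroup corresponds to the field. -/
def uEquiv : U F ≃ F where
  toFun g := g.1.1 0 1
  invFun b := ⟨up F b, up_mem b⟩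
  left_inv g := Subtype.ext (eq_up g.2).symm
  right_inv b := by simp

theorem dg_injective : Function.Injective (dg F) := fun a b h => by
  have := congrArg (fun g : SL(2, F) => g.1 0 0) h
  exact Units.ext (by simpa [dg] using this)

theorem card_T : Nat.card (T F) = Nat.card Fˣ := by
  refine (Nat.card_eq_of_bijective (fun a => (⟨dg F a, dg_mem a⟩ : T F)) ⟨fun a b h => ?_, fun g => ?_⟩).symm
  · exact dg_injective (congrArg Subtype.val h)
  · obtain ⟨a, ha⟩ := eq_dg g.2
    exact ⟨a, Subtype.ext ha.symm⟩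

variable [Fintype F] [CharP F 2]

theorem up_sq (b : F) : up F b * up F b = 1 := by
  rw [up_mul, CharTwo.add_self_eq_zero]
  ext i j
  fin_cases i <;> fin_cases j <;> simp

theorem even_card : Even (Fintype.card F) := by
  obtain ⟨n, -, hn⟩ := FiniteField.card F 2
  rw [hn]
  exact (even_two.pow_of_ne_zero n.pos.ne')

theorem gen {K : Subgroup SL(2, F)} (hU : U F ≤ K) {z : SL(2, F)} (hz : z ∈ U F) (h1 : z ≠ 1)
    (hwz : flip F * z * (flip F)⁻¹ ∈ K) : K = ⊤ := by
  rw [eq_up hz] at hwz h1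
  set b := z.1 0 1
  have hb : b ≠ 0 := fun h => h1 (by rw [h]; ext i j; fin_cases i <;> fin_cases j <;> simp)
  have hw : flip F * up F b * (flip F)⁻¹ = low F b := by
    refine mul_inv_eq_iff_eq_mul.2 ?_
    ext i j
    fin_cases i <;> fin_cases j <;> simp [Matrix.mul_apply, CharTwo.neg_eq]
  rw [hw] at hwz
  -- an antidiagonal element
  set ω := up F b⁻¹ * low F b * up F b⁻¹ with hωdef
  have hω : ω ∈ K := K.mul_mem (K.mul_mem (hU (up_mem b⁻¹)) hwz) (hU (up_mem b⁻¹))
  have eω : ω.1 = !![0, b⁻¹; b, 0] := by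
    ext i j
    fin_cases i <;> fin_cases j <;> simp [hωdef, Matrix.mul_apply, hb, CharTwo.add_self_eq_zero]
  have hlow : ∀ c : F, low F c ∈ K := fun c => by
    have e : ω * up F (c * (b⁻¹ * b⁻¹)) = low F c * ω := by
      ext i j
      fin_cases i <;> fin_cases j <;> simp [Matrix.mul_apply, eω] <;> field_simp
    have := K.mul_mem (K.mul_mem hω (hU (up_mem (c * (b⁻¹ * b⁻¹))))) (K.inv_mem hω)
    rwa [e, mul_inv_cancel_right] at this
  refine eq_top_iff.2 fun g _ => ?_
  have step : ∀ g : SL(2, F), g.1 1 0 ≠ 0 → g ∈ K := by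
    intro g hc
    have hd := det_eq g
    have e : g = up F ((g.1 0 0 - 1) / g.1 1 0) * low F (g.1 1 0) *
        up F ((g.1 1 1 - 1) / g.1 1 0) := by
      ext i j
      fin_cases i <;> fin_cases j <;> simp [Matrix.mul_apply] <;> field_simp
      all_goals first
        | linear_combination hd
        | linear_combination -hd
        | ring
    rw [e]
    exact K.mul_mem (K.mul_mem (hU (up_mem _)) (hlow _)) (hU (up_mem _))
  by_cases hc : g.1 1 0 = 0
  · have hd := det_eq g
    refine (K.mul_mem_cancel_left (hlow 1)).1 (step _ ?_)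
    simpa [Matrix.mul_apply, Fin.sum_univ_two, hc] using fun h : g.1 0 0 = 0 => by simp [hc, h] at hd
  · exact step g hc

/-- The frame of `SL₂`. -/
noncomputable def frame (h4 : 4 ≤ Fintype.card F) : Frame SL(2, F) where
  S := U F
  Z := U F
  D := T F
  M := B F
  w := flip F
  isP := fun g => ⟨1, Subtype.ext (by
    have h : (g : SL(2, F)) * g = 1 := by rw [eq_up g.2, up_sq]
    simpa [pow_two] using h)⟩
  index_odd := by
    have h := (U F).card_mul_index
    rw [CfsgLib.Classical.card_sl2 rfl, Nat.card_congr uEquiv, Nat.card_eq_fintype_card] at h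
    rw [Nat.eq_of_mul_eq_mul_left Fintype.card_pos h]
    have h1 : 1 ≤ Fintype.card F ^ 2 := Nat.one_le_pow _ _ Fintype.card_pos
    have h2 : Even (Fintype.card F ^ 2) := (even_card).pow_of_ne_zero two_ne_zero
    obtain ⟨k, hk⟩ := h2
    omega
  mem_M m := by
    constructor
    · intro hm
      have hd := det_eq m
      have hm' : m.1 1 0 = 0 := hm
      rw [hm', mul_zero, sub_zero] at hd
      refine ⟨up F (m.1 0 0 * m.1 0 1), up_mem _, dg F (Units.mkOfMulEqOne _ _ hd), dg_mem _, ?_⟩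
      ext i j
      have ha : m.1 0 0 ≠ 0 := left_ne_zero_of_mul_eq_one hd
      fin_cases i <;> fin_cases j <;> simp [Matrix.mul_apply, hm']
      all_goals field_simp
      all_goals linear_combination hd
    · rintro ⟨s, hs, d, hd, rfl⟩
      show (s * d).1 1 0 = 0
      simp [Matrix.mul_apply, hs.1, hd.1]
  conj_S d hd s hs := by
    obtain ⟨a, rfl⟩ := eq_dg hd
    rw [eq_up hs, dg_conj_up]; exact up_mem _
  odd_D := by
    rw [card_T, Nat.card_units, Nat.card_eq_fintype_card]
    exact Nat.Even.sub_odd Fintype.card_pos even_card odd_one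
  Z_le := le_rfl
  mem_Z s hs := ⟨fun _ => hs, fun _ => by rw [eq_up hs, up_sq]⟩
  sq_mem s hs := (U F).mul_mem hs hs
  Z_comm s hs z hz := by rw [eq_up hs, eq_up hz, up_mul, up_mul, add_comm]
  comm_mem s hs t ht := (U F).mul_mem ((U F).mul_mem ((U F).mul_mem hs ht) ((U F).inv_mem hs)) ((U F).inv_mem ht)
  cover g hg := by
    have hc : g.1 1 0 ≠ 0 := hg
    refine ⟨up F (g.1 0 0 / g.1 1 0), up_mem _, (up F (g.1 0 0 / g.1 1 0) * flip F)⁻¹ * g, ?_, ?_⟩
    · show ((up F (g.1 0 0 / g.1 1 0) * flip F)⁻¹ * g).1 1 0 = 0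
      simp [Matrix.mul_apply, Matrix.adjugate_fin_two, Fin.sum_univ_two]
      field_simp
      ring
    · group
  inter g hg hg' := by
    refine ⟨hg, ?_⟩
    have h : ((flip F)⁻¹ * g * flip F).1 1 0 = 0 := hg'
    simpa [Matrix.mul_apply, Matrix.adjugate_fin_two, Matrix.vecMul, dotProduct, Fin.sum_univ_two] using h
  w_zpowers d hd := by
    obtain ⟨a, rfl⟩ := eq_dg hd
    refine ⟨-1, ?_⟩
    show (dg F a) ^ (-1 : ℤ) = _
    rw [zpow_neg_one, mul_assoc, eq_inv_mul_iff_mul_eq, mul_inv_eq_iff_eq_mul, mul_assoc,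
      ← mul_inv_eq_iff_eq_mul]
    ext i j
    fin_cases i <;> fin_cases j <;> simp [Matrix.mul_apply, Matrix.adjugate_fin_two]
  fpf d _ _ s hs _ := hs
  zfix d hd z hz h1 hdz z' _ := by
    obtain ⟨a, rfl⟩ := eq_dg hd
    have e : dg F a * z * (dg F a)⁻¹ = z := mul_inv_eq_iff_eq_mul.2 hdz
    rw [eq_up hz, dg_conj_up] at e
    have hb : z.1 0 1 ≠ 0 := fun h => h1 (by
      rw [eq_up hz, h]; ext i j; fin_cases i <;> fin_cases j <;> simp)
    have e' := congrArg (fun g : SL(2, F) => g.1 0 1) e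
    simp only [up, Matrix.of_apply, Matrix.cons_val', Matrix.cons_val_zero, Matrix.cons_val_one,
      Matrix.cons_val_fin_one] at e'
    have ha : (a : F) * a = 1 := mul_right_cancel₀ hb (by rw [one_mul]; exact e')
    have ha1 : a = 1 := Units.ext (CharTwo.sq_inj.1 (by rw [pow_two, ha, Units.val_one, one_pow]))
    have h1 : dg F a = 1 := by
      rw [ha1]; ext i j; fin_cases i <;> fin_cases j <;> simp
    rw [h1]; exact Commute.one_left z'
  gen K hK z hz h1 hwz := gen hK hz h1 hwz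
  extra := by
    classical
    obtain ⟨a, ha⟩ : ∃ a : Fˣ, a ≠ 1 := by
      have : Nontrivial Fˣ := Fintype.one_lt_card_iff_nontrivial.1 (by
        rw [Fintype.card_units]; omega)
      exact exists_ne 1
    refine ⟨dg F a, dg_mem a, fun h => ha (dg_injective ?_), fun K hK hwK => ?_⟩
    · rw [h]; ext i j; fin_cases i <;> fin_cases j <;> simp
    · have h1 : up F (1 : F) ≠ 1 := fun h => by
        have := congrArg (fun g : SL(2, F) => g.1 0 1) h
        simp at this
      rw [gen hK (up_mem 1) h1 (hwK _ (up_mem 1))]; trivial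
  four s hs hs' := absurd hs hs'
  central d hd hd1 hc := by
    obtain ⟨a, rfl⟩ := eq_dg hd
    exfalso
    have e : dg F a * up F 1 * (dg F a)⁻¹ = up F 1 := mul_inv_eq_iff_eq_mul.2 (hc _ (up_mem 1))
    rw [dg_conj_up] at e
    have e' := congrArg (fun g : SL(2, F) => g.1 0 1) e
    simp at e'
    have ha1 : a = 1 := Units.ext (CharTwo.sq_inj.1 (by rw [pow_two, e', Units.val_one, one_pow]))
    exact hd1 (by rw [ha1]; ext i j; fin_cases i <;> fin_cases j <;> simp)

end CfsgLib.Perm.BinaryOneClass.SL2Model
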