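import Cfsg.Agent.Lib.Perm.BinaryOneClass.Generic

/-!
# Binary actions of groups with one class of involutions: the point stabiliser

The groups with a strongly embedded subgroup are described by a frame `S ≤ M = S D`, `w`; the
only stabiliser of even order with a binary action is `Z = Ω₁(S)`.
-/

set_option autoImplicit false
set_option linter.style.haveILetI false
set_option linter.unusedSectionVars false

namespace CfsgLib.Perm.BinaryOneClass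

/-- Transport along an isomorphism. -/
theorem IsBinary.transfer {G G' : Type*} [Group G] [Group G'] (φ : G ≃* G') {H : Subgroup G}
    {H' : Subgroup G'} (hH : ∀ g, φ g ∈ H' ↔ g ∈ H) (hb : IsBinary G (G ⧸ H)) :
    IsBinary G' (G' ⧸ H') := by
  let e : G' ⧸ H' → G ⧸ H := Quotient.map φ.symm fun a b hab => by
    refine QuotientGroup.leftRel_apply.2 ((hH _).1 ?_)
    simpa using QuotientGroup.leftRel_apply.1 hab
  have heq : ∀ (g : G') (x : G' ⧸ H'), e (g • x) = φ.symm g • e x := by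
    intro g x
    induction x using QuotientGroup.induction_on with
    | H a => exact congrArg QuotientGroup.mk (map_mul φ.symm g a)
  have hinj : Function.Injective e := by
    intro x y
    induction x using QuotientGroup.induction_on with
    | H a =>
    induction y using QuotientGroup.induction_on with
    | H b =>
    intro h
    refine QuotientGroup.eq.2 ?_
    have h1 := (hH _).2 (QuotientGroup.eq.1 h)
    simpa using h1
  intro n I J hn hp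
  obtain ⟨g, hg⟩ := hb n (fun i => e (I i)) (fun i => e (J i)) hn fun i j hij => by
    obtain ⟨g, h1, h2⟩ := hp i j hij
    exact ⟨φ.symm g, by rw [← heq, h1], by rw [← heq, h2]⟩
  exact ⟨φ g, fun i => hinj (by rw [heq, φ.symm_apply_apply, hg])⟩

/-- The data shared by `SL₂`, the Suzuki groups and `PSU₃` in characteristic two. -/
structure Frame (X : Type*) [Group X] where
  S : Subgroup X
  Z : Subgroup X
  D : Subgroup X
  M : Subgroup X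
  w : X
  isP : IsPGroup 2 S
  index_odd : ¬ 2 ∣ S.index
  mem_M : ∀ m, m ∈ M ↔ ∃ s ∈ S, ∃ d ∈ D, m = s * d
  conj_S : ∀ d ∈ D, ∀ s ∈ S, d * s * d⁻¹ ∈ S
  odd_D : Odd (Nat.card D)
  Z_le : Z ≤ S
  mem_Z : ∀ s ∈ S, s * s = 1 ↔ s ∈ Z
  sq_mem : ∀ s ∈ S, s * s ∈ Z
  Z_comm : ∀ s ∈ S, ∀ z ∈ Z, s * z = z * s
  comm_mem : ∀ s ∈ S, ∀ t ∈ S, s * t * s⁻¹ * t⁻¹ ∈ Z
  cover : ∀ g, g ∉ M → ∃ s ∈ S, ∃ m ∈ M, g = s * w * m
  inter : ∀ g ∈ M, w⁻¹ * g * w ∈ M → g ∈ D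
  w_zpowers : ∀ d ∈ D, w⁻¹ * d * w ∈ Subgroup.zpowers d
  fpf : ∀ d ∈ D, d ≠ 1 → ∀ s ∈ S, d * s * d⁻¹ * s⁻¹ ∈ Z → s ∈ Z
  zfix : ∀ d ∈ D, ∀ z ∈ Z, z ≠ 1 → Commute d z → ∀ z' ∈ Z, Commute d z'
  gen : ∀ K : Subgroup X, S ≤ K → ∀ z ∈ Z, z ≠ 1 → w * z * w⁻¹ ∈ K → K = ⊤
  extra : ∃ d ∈ D, d ≠ 1 ∧ ∀ K : Subgroup X, Z ≤ K → (∀ z ∈ Z, w * z * w⁻¹ ∈ K) → d ∈ K
  four : ∀ s ∈ S, s ∉ Z → ∀ H : Subgroup X, s ∈ H → Z ≤ H → ∃ g₁ g₂ b, g₁ ∉ M ∧ g₂ ∉ M ∧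
    g₁⁻¹ * b * g₁ ∈ H ∧ g₂⁻¹ * (s⁻¹ * b) * g₂ ∈ H
  central : ∀ d ∈ D, d ≠ 1 → (∀ z ∈ Z, Commute d z) → ∃ s ∈ S, ∃ s' ∈ S, ∃ z ∈ Z,
    (∃ s₂ ∈ S, ∃ k : ℤ, w⁻¹ * (s'⁻¹ * (w * z * w⁻¹) * s) * w = s₂ * d ^ k) ∧
      ∀ c ∈ D, (∀ z ∈ Z, Commute c z) → c * s * c⁻¹ ≠ s'

namespace Frame

variable {X : Type*} [Group X] [Finite X] (F : Frame X)

theorem S_le_M : F.S ≤ F.M := fun s hs =>
  (F.mem_M s).2 ⟨s, hs, 1, F.D.one_mem, (mul_one s).symm⟩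

theorem D_le_M : F.D ≤ F.M := fun d hd =>
  (F.mem_M d).2 ⟨1, F.S.one_mem, d, hd, (one_mul d).symm⟩

theorem conj_S_M {m s : X} (hm : m ∈ F.M) (hs : s ∈ F.S) : m * s * m⁻¹ ∈ F.S := by
  obtain ⟨t, ht, d, hd, rfl⟩ := (F.mem_M m).1 hm
  rw [show t * d * s * (t * d)⁻¹ = t * (d * s * d⁻¹) * t⁻¹ by group]
  exact F.S.mul_mem (F.S.mul_mem ht (F.conj_S d hd s hs)) (F.S.inv_mem ht)

theorem conj_Z_M {m z : X} (hm : m ∈ F.M) (hz : z ∈ F.Z) : m * z * m⁻¹ ∈ F.Z :=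
  (F.mem_Z _ (F.conj_S_M hm (F.Z_le hz))).1 (by
    rw [show m * z * m⁻¹ * (m * z * m⁻¹) = m * (z * z) * m⁻¹ by group,
      (F.mem_Z z (F.Z_le hz)).2 hz, mul_one, mul_inv_cancel])

theorem eq_one_of_odd {d : X} (hd : d ∈ F.D) {k : ℕ} (h : d ^ (2 ^ k) = 1) : d = 1 := by
  have h1 : orderOf d ∣ 2 ^ k := orderOf_dvd_of_pow_eq_one h
  have h2 : orderOf d ∣ Nat.card F.D := by
    simpa using orderOf_dvd_natCard (⟨d, hd⟩ : F.D)
  have h3 : (2 ^ k).Coprime (Nat.card F.D) :=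
    (Nat.coprime_two_left.2 F.odd_D).pow_left k
  exact orderOf_eq_one_iff.1 (Nat.eq_one_of_dvd_coprimes h3 h1 h2)

theorem S_inter_D {x : X} (hS : x ∈ F.S) (hD : x ∈ F.D) : x = 1 := by
  obtain ⟨k, hk⟩ := F.isP ⟨x, hS⟩
  exact F.eq_one_of_odd hD (k := k) (by simpa using congrArg Subtype.val hk)

theorem D_sq_generates {d : X} (hd : d ∈ F.D) {z : X} (h : Commute (d * d) z) : Commute d z := by
  have h2 : orderOf d ∣ Nat.card F.D := by simpa using orderOf_dvd_natCard (⟨d, hd⟩ : F.D)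
  obtain ⟨k, hk⟩ := Odd.of_dvd_nat F.odd_D h2
  have e : d = (d * d) ^ (k + 1) := by
    rw [← pow_two, ← pow_mul, show 2 * (k + 1) = orderOf d + 1 by omega, pow_succ,
      pow_orderOf_eq_one, one_mul]
  rw [e]
  exact h.pow_left _

theorem involution_mem_Z {m : X} (hm : m ∈ F.M) (h2 : m * m = 1) : m ∈ F.Z := by
  obtain ⟨t, ht, d, hd, rfl⟩ := (F.mem_M m).1 hm
  have e : (t * (d * t * d⁻¹))⁻¹ = d * d := by
    refine inv_eq_of_mul_eq_one_right ?_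
    rw [← h2]; group
  have hdd : d * d ∈ F.S := e ▸ F.S.inv_mem (F.S.mul_mem ht (F.conj_S d hd t ht))
  have hd1 : d = 1 := F.eq_one_of_odd hd (k := 1) (by
    rw [pow_one, pow_two]; exact F.S_inter_D hdd (F.D.mul_mem hd hd))
  subst hd1
  rw [mul_one] at h2 ⊢
  exact (F.mem_Z t ht).1 h2

theorem wzw_not_mem {z : X} (hz : z ∈ F.Z) (h1 : z ≠ 1) : F.w * z * F.w⁻¹ ∉ F.M := by
  intro h
  have hD := F.inter _ h (by
    rw [show F.w⁻¹ * (F.w * z * F.w⁻¹) * F.w = z by group]; exact F.S_le_M (F.Z_le hz))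
  have h2 : (F.w * z * F.w⁻¹) ^ (2 ^ 1) = 1 := by
    rw [pow_one, pow_two, show F.w * z * F.w⁻¹ * (F.w * z * F.w⁻¹) = F.w * (z * z) * F.w⁻¹ by group,
      (F.mem_Z z (F.Z_le hz)).2 hz]
    group
  exact h1 (by simpa using F.eq_one_of_odd hD h2)

theorem mem_M_of_conj_Z {g z : X} (hz : z ∈ F.Z) (h1 : z ≠ 1) (h : g * z * g⁻¹ ∈ F.M) : g ∈ F.M := by
  by_contra hg
  obtain ⟨s, hs, m, hm, rfl⟩ := F.cover g hg
  refine F.wzw_not_mem (F.conj_Z_M hm hz) (fun e => h1 ?_) ?_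
  · calc z = m⁻¹ * (m * z * m⁻¹) * m := by group
      _ = 1 := by rw [e]; group
  · have := F.M.mul_mem (F.M.mul_mem (F.M.inv_mem (F.S_le_M hs)) h) (F.S_le_M hs)
    rwa [show s⁻¹ * (s * F.w * m * z * (s * F.w * m)⁻¹) * s = F.w * (m * z * m⁻¹) * F.w⁻¹ by group] at this

/-- A coset of a subgroup normalised by `c` which `c` fixes is the subgroup. -/
theorem mem_of_fixed_coset {H : Subgroup X} (hZH : F.Z ≤ H) {c u : X} (hc : c ∈ F.D) (hc1 : c ≠ 1)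
    (hcX : ∀ x ∈ H ⊓ F.S, c * x * c⁻¹ ∈ H ⊓ F.S) (hu : u ∈ F.S)
    (hfix : c * u * c⁻¹ * u⁻¹ ∈ H ⊓ F.S) : u ∈ H := by
  set Y := H ⊓ F.S with hY
  have hZY : F.Z ≤ Y := le_inf hZH F.Z_le
  have hnorm : ∀ s ∈ F.S, ∀ x ∈ Y, s * x * s⁻¹ ∈ Y := fun s hs x hx => by
    have := Y.mul_mem (hZY (F.comm_mem s hs x hx.2)) hx
    rwa [inv_mul_cancel_right] at this
  set n := orderOf c
  have hn : Odd n := by
    refine Odd.of_dvd_nat F.odd_D ?_
    simpa using orderOf_dvd_natCard (⟨c, hc⟩ : F.D)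
  have hN : ∀ k : ℕ, (u * c) ^ k * (c ^ k)⁻¹ * (u ^ k)⁻¹ ∈ Y := by
    intro k
    induction k with
    | zero => simp
    | succ k ih =>
      have hu' : ∀ j : ℕ, c * u ^ j * c⁻¹ * (u ^ j)⁻¹ ∈ Y := by
        intro j
        induction j with
        | zero => simp
        | succ j ihj =>
          have h1 := hnorm _ (F.S.pow_mem hu j) _ hfix
          have h2 := Y.mul_mem ihj h1
          rwa [show c * u ^ j * c⁻¹ * (u ^ j)⁻¹ * (u ^ j * (c * u * c⁻¹ * u⁻¹) * (u ^ j)⁻¹) =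
            c * u ^ (j + 1) * c⁻¹ * (u ^ (j + 1))⁻¹ by rw [pow_succ]; group] at h2
      have h1 := hnorm _ hu _ (Y.mul_mem (hcX _ ih) (hu' k))
      rwa [show u * (c * ((u * c) ^ k * (c ^ k)⁻¹ * (u ^ k)⁻¹) * c⁻¹ *
          (c * u ^ k * c⁻¹ * (u ^ k)⁻¹)) * u⁻¹ =
          (u * c) ^ (k + 1) * (c ^ (k + 1))⁻¹ * (u ^ (k + 1))⁻¹ by
        rw [pow_succ', pow_succ c, pow_succ' u, ← (Commute.refl c).pow_right k |>.eq]
        group] at h1
  have h1 := hN n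
  rw [pow_orderOf_eq_one, inv_one, mul_one] at h1
  set N := (u * c) ^ n with hNdef
  have hNS : N ∈ F.S := by
    have h2 := F.S.mul_mem h1.2 (F.S.pow_mem hu n)
    rwa [inv_mul_cancel_right] at h2
  have hNZ : N ∈ F.Z := by
    refine F.fpf c hc hc1 N hNS ?_
    have e : u * c * N = N * (u * c) := (Commute.self_pow (u * c) n).eq
    rw [show c * N * c⁻¹ * N⁻¹ = u⁻¹ * (u * c * N) * c⁻¹ * N⁻¹ by group, e,
      show u⁻¹ * (N * (u * c)) * c⁻¹ * N⁻¹ = u⁻¹ * N * u * N⁻¹ by group]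
    simpa using F.comm_mem u⁻¹ (F.S.inv_mem hu) N hNS
  have hun : u ^ n ∈ Y := by
    have h2 := Y.mul_mem (Y.inv_mem h1) (hZY hNZ)
    rwa [show (N * (u ^ n)⁻¹)⁻¹ * N = u ^ n by group] at h2
  obtain ⟨k, hk⟩ := hn
  have h3 : (u * u) ^ k ∈ Y := Y.pow_mem (hZY (F.sq_mem u hu)) k
  rw [hk, pow_succ, pow_mul, pow_two] at hun
  exact ((Y.mul_mem_cancel_left h3).1 hun).1

/-- Every element of `M` outside `S` is conjugate into `Z D`. -/
theorem exists_conj {s c : X} (hs : s ∈ F.S) (hc : c ∈ F.D) (hc1 : c ≠ 1) :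
    ∃ x ∈ F.S, (x * c * x⁻¹) * (s * c)⁻¹ ∈ F.Z := by
  set Z' := F.Z.subgroupOf F.S
  let Φ : F.S → F.S := fun x => ⟨x.1 * (c * x.1⁻¹ * c⁻¹),
    F.S.mul_mem x.2 (F.conj_S c hc _ (F.S.inv_mem x.2))⟩
  let f : F.S ⧸ Z' → F.S ⧸ Z' := fun q => (QuotientGroup.mk (Φ q.out) : F.S ⧸ Z')
  have hf : Function.Injective f := by
    intro p q hpq
    rw [← Quotient.out_eq' p, ← Quotient.out_eq' q]
    refine QuotientGroup.eq.2 ?_
    set x := (p.out : F.S).1 with hx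
    set y := (q.out : F.S).1 with hy
    have h := Subgroup.mem_subgroupOf.1 (QuotientGroup.eq.1 hpq)
    change (x * (c * x⁻¹ * c⁻¹))⁻¹ * (y * (c * y⁻¹ * c⁻¹)) ∈ F.Z at h
    refine Subgroup.mem_subgroupOf.2 ?_
    show x⁻¹ * y ∈ F.Z
    have hxy : x⁻¹ * y ∈ F.S := F.S.mul_mem (F.S.inv_mem p.out.2) q.out.2
    refine F.fpf c hc hc1 _ hxy ?_
    set a := c * x * c⁻¹ with ha
    set b := c * y * c⁻¹ with hb
    have haS : a ∈ F.S := F.conj_S c hc _ p.out.2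
    have hbS : b ∈ F.S := F.conj_S c hc _ q.out.2
    have h' : a * (x⁻¹ * y) * b⁻¹ ∈ F.Z := by
      rwa [show (x * (c * x⁻¹ * c⁻¹))⁻¹ * (y * (c * y⁻¹ * c⁻¹)) = a * (x⁻¹ * y) * b⁻¹ by
        rw [ha, hb]; group] at h
    have h'' := F.Z.inv_mem h'
    rw [show (a * (x⁻¹ * y) * b⁻¹)⁻¹ = b * (x⁻¹ * y)⁻¹ * a⁻¹ by group] at h''
    rw [show c * (x⁻¹ * y) * c⁻¹ * (x⁻¹ * y)⁻¹ = a⁻¹ * (b * (x⁻¹ * y)⁻¹ * a⁻¹) * a by
      rw [ha, hb]; group, mul_assoc _ _ a, ← F.Z_comm a haS _ h'', inv_mul_cancel_left]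
    exact h''
  obtain ⟨q, hq⟩ := (Finite.injective_iff_surjective.1 hf) (QuotientGroup.mk (⟨s, hs⟩ : F.S))
  refine ⟨(q.out : F.S).1, q.out.2, ?_⟩
  have h := Subgroup.mem_subgroupOf.1 (QuotientGroup.eq.1 hq.symm)
  set x := (q.out : F.S).1
  change s⁻¹ * (x * (c * x⁻¹ * c⁻¹)) ∈ F.Z at h
  have e : x * c * x⁻¹ * (s * c)⁻¹ = s * (s⁻¹ * (x * (c * x⁻¹ * c⁻¹))) * s⁻¹ := by group
  rw [e, F.Z_comm s hs _ h, mul_inv_cancel_right]
  exact h

section Binary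

variable [IsSimpleGroup X] (hone : ∀ s t : X, orderOf s = 2 → orderOf t = 2 → IsConj s t)
  {H : Subgroup X} (hH : H ≠ ⊤) (hb : IsBinary X (X ⧸ H)) {z0 : X} (hz0 : z0 ∈ F.Z) (hz01 : z0 ≠ 1)
  (hz0H : z0 ∈ H)

theorem orderOf_Z {z : X} (hz : z ∈ F.Z) (h1 : z ≠ 1) : orderOf z = 2 :=
  orderOf_eq_prime (by rw [pow_two]; exact (F.mem_Z z (F.Z_le hz)).2 hz) h1

include hone hH hb

/-- The conjugates of `Z` meeting `H` lie in `H`. -/
theorem conj_Z_le {g z : X} (hz : z ∈ F.Z) (h1 : z ≠ 1) (hgz : g * z * g⁻¹ ∈ H) :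
    ∀ z' ∈ F.Z, g * z' * g⁻¹ ∈ H := by
  intro z' hz'
  by_cases h1' : z' = 1
  · rw [h1']; simp
  refine mem_of_commute hone hH hb hgz ?_ ?_ ?_
  · rw [CfsgLib.Involution.Dihedral.orderOf_conj]; exact F.orderOf_Z hz h1
  · rw [CfsgLib.Involution.Dihedral.orderOf_conj]; exact F.orderOf_Z hz' h1'
  · show g * z' * g⁻¹ * (g * z * g⁻¹) = g * z * g⁻¹ * (g * z' * g⁻¹)
    rw [show g * z' * g⁻¹ * (g * z * g⁻¹) = g * (z' * z) * g⁻¹ by group,
      show g * z * g⁻¹ * (g * z' * g⁻¹) = g * (z * z') * g⁻¹ by group,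
      F.Z_comm z' (F.Z_le hz') z hz]

include hz0 hz01 hz0H

theorem Z_le_H : F.Z ≤ H := fun z hz => by
  simpa using F.conj_Z_le hone hH hb (g := 1) hz0 hz01 (by simpa using hz0H) z hz

/-- No nontrivial element of `D` lies in `H` if `S` is not contained in `H`. -/
theorem false_of_torus {d u0 : X} (hd : d ∈ H) (hdD : d ∈ F.D) (hd1 : d ≠ 1)
    (hu0 : u0 ∈ F.S) (hu0H : u0 ∉ H)
    (hR : ∀ g ∈ H, ∀ u ∈ F.S, u ∉ H → u⁻¹ * g * u ∈ H → g ∈ F.M) : False := by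
  have hZH := F.Z_le_H hone hH hb hz0 hz01 hz0H
  set x0 : X ⧸ H := ((1 : X) : X ⧸ H)
  have hfix : ∀ {a b : X}, a • (b • x0) = b • x0 ↔ b⁻¹ * a * b ∈ H := fun {a b} => by
    rw [← smul_base_iff (H := H), mul_smul, mul_smul, inv_smul_eq_iff]
  have hdY : ∀ x ∈ H ⊓ F.S, d * x * d⁻¹ ∈ H ⊓ F.S := fun x hx =>
    ⟨H.mul_mem (H.mul_mem hd hx.1) (H.inv_mem hd), F.conj_S d hdD x hx.2⟩
  obtain ⟨g, hgy, -, hgu, hgv⟩ := hb.affine ∅ F.S (y := x0) (d := d) (w := u0)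
    (smul_base_iff.2 hd) (by simp) (fun a ha => F.conj_S d hdD a ha) hu0
    (fun a ha b hb' => by
      have h1 : (b⁻¹ * a⁻¹ * b * a) • x0 = x0 := smul_base_iff.2 (hZH (by
        simpa using F.comm_mem _ (F.S.inv_mem hb') _ (F.S.inv_mem ha)))
      conv_lhs => rw [← h1]
      rw [smul_smul]
      congr 1; group)
  set u := d * u0 * d⁻¹ with hu
  have huS : u ∈ F.S := F.conj_S d hdD u0 hu0
  have huH : u ∉ H := fun h => hu0H (by
    have := H.mul_mem (H.mul_mem (H.inv_mem hd) h) hd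
    rwa [hu, show d⁻¹ * (d * u0 * d⁻¹) * d = u0 by group] at this)
  have hgH : g ∈ H := smul_base_iff.1 hgy
  have hgu' : u⁻¹ * g * u ∈ H := hfix.1 hgu
  have hgM := hR g hgH u huS huH hgu'
  obtain ⟨t, ht, c, hc, rfl⟩ := (F.mem_M g).1 hgM
  -- the torus part is trivial
  have hc1 : c = 1 := by
    by_contra hc1
    refine huH (F.mem_of_fixed_coset hZH hc hc1 (fun x hx => ?_) huS ?_)
    · have hxc := F.conj_S c hc x hx.2
      refine ⟨?_, hxc⟩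
      have h1 : (t * c) * x * (t * c)⁻¹ ∈ H := H.mul_mem (H.mul_mem hgH hx.1) (H.inv_mem hgH)
      have h2 := hZH (F.comm_mem t⁻¹ (F.S.inv_mem ht) _ (F.conj_S_M hgM hx.2))
      have h3 := H.mul_mem h2 h1
      rw [inv_mul_cancel_right, inv_inv] at h3
      rwa [show t⁻¹ * (t * c * x * (t * c)⁻¹) * t = c * x * c⁻¹ by group] at h3
    · refine ⟨?_, F.S.mul_mem (F.conj_S c hc u huS) (F.S.inv_mem huS)⟩
      set a := c * u * c⁻¹
      have haS : a ∈ F.S := F.conj_S c hc u huS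
      have h1 : u⁻¹ * (t * a * t⁻¹) ∈ H := by
        have := H.mul_mem hgu' (H.inv_mem hgH)
        rwa [show u⁻¹ * (t * c) * u * (t * c)⁻¹ = u⁻¹ * (t * a * t⁻¹) by simp only [a]; group] at this
      have h2 := F.comm_mem t ht a haS
      have hza : t * a * t⁻¹ = (t * a * t⁻¹ * a⁻¹) * a := by group
      rw [hza] at h1
      have h3 : u⁻¹ * a ∈ H := by
        rw [← mul_assoc, F.Z_comm u⁻¹ (F.S.inv_mem huS) _ h2, mul_assoc] at h1
        exact (H.mul_mem_cancel_left (hZH h2)).1 h1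
      have h4 := hZH (F.comm_mem a haS u⁻¹ (F.S.inv_mem huS))
      have h5 := H.mul_mem h4 h3
      rwa [show a * u⁻¹ * a⁻¹ * u⁻¹⁻¹ * (u⁻¹ * a) = a * u⁻¹ by group] at h5
  subst hc1
  rw [mul_one] at hgH hgu' hgv
  -- so the last point is fixed
  set v := u * u0 with hv
  have hvS : v ∈ F.S := F.S.mul_mem huS hu0
  have hgvfix : t • (v • x0) = v • x0 := hfix.2 (by
    have h1 := hZH (F.comm_mem v⁻¹ (F.S.inv_mem hvS) t ht)
    have h2 := H.mul_mem h1 hgH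
    rwa [inv_mul_cancel_right, inv_inv] at h2)
  have hdv : v⁻¹ * d * v ∈ H := hfix.1 (by
    rw [smul_smul, show (d * v) = d * v from rfl, ← hgv]; exact hgvfix)
  have hvH : v ∈ H := by
    refine F.mem_of_fixed_coset hZH hdD hd1 hdY hvS ?_
    have h1 : v⁻¹ * (d * v * d⁻¹) ∈ H := by
      have := H.mul_mem hdv (H.inv_mem hd)
      rwa [show v⁻¹ * d * v * d⁻¹ = v⁻¹ * (d * v * d⁻¹) by group] at this
    have haS := F.conj_S d hdD v hvS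
    refine ⟨?_, F.S.mul_mem haS (F.S.inv_mem hvS)⟩
    have h4 := hZH (F.comm_mem _ haS v⁻¹ (F.S.inv_mem hvS))
    have h5 := H.mul_mem h4 h1
    rwa [show d * v * d⁻¹ * v⁻¹ * (d * v * d⁻¹)⁻¹ * v⁻¹⁻¹ * (v⁻¹ * (d * v * d⁻¹)) =
      d * v * d⁻¹ * v⁻¹ by group] at h5
  refine hu0H (F.mem_of_fixed_coset hZH hdD hd1 hdY hu0 ⟨?_, ?_⟩)
  · rw [show d * u0 * d⁻¹ * u0⁻¹ = u * u0 * (u0 * u0)⁻¹ by rw [hu]; group]
    exact H.mul_mem hvH (H.inv_mem (hZH (F.sq_mem u0 hu0)))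
  · exact F.S.mul_mem huS (F.S.inv_mem hu0)

/-- Two conjugates of `Z` cannot lie in `H`. -/
theorem false_of_two (hw : ∀ z ∈ F.Z, F.w * z * F.w⁻¹ ∈ H) : False := by
  have hZH := F.Z_le_H hone hH hb hz0 hz01 hz0H
  obtain ⟨d, hdD, hd1, hdK⟩ := F.extra
  have hd : d ∈ H := hdK H hZH hw
  obtain ⟨u0, hu0, hu0H⟩ : ∃ u ∈ F.S, u ∉ H := by
    by_contra hall
    push Not at hall
    exact hH (F.gen H hall z0 hz0 hz01 (hw z0 hz0))
  have hdY : ∀ x ∈ H ⊓ F.S, d * x * d⁻¹ ∈ H ⊓ F.S := fun x hx =>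
    ⟨H.mul_mem (H.mul_mem hd hx.1) (H.inv_mem hd), F.conj_S d hdD x hx.2⟩
  -- the conjugates of `Z` in `H` are translates by elements of `H`
  have key : ∀ s ∈ F.S, (∀ z ∈ F.Z, s * (F.w * z * F.w⁻¹) * s⁻¹ ∈ H) → s ∈ H := by
    intro s hs hsw
    have hsd : s * d * s⁻¹ ∈ H := by
      have h := hdK (H.comap (MulAut.conj s).toMonoidHom) (fun z hz => ?_) (fun z hz => hsw z hz)
      · exact h
      · show s * z * s⁻¹ ∈ H
        rw [F.Z_comm s hs z hz, mul_inv_cancel_right]; exact hZH hz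
    refine F.mem_of_fixed_coset hZH hdD hd1 hdY hs ⟨?_, F.S.mul_mem (F.conj_S d hdD s hs) (F.S.inv_mem hs)⟩
    have h1 : s * (d * s⁻¹ * d⁻¹) ∈ H := by
      have := H.mul_mem hsd (H.inv_mem hd)
      rwa [show s * d * s⁻¹ * d⁻¹ = s * (d * s⁻¹ * d⁻¹) by group] at this
    have haS := F.conj_S d hdD s hs
    have h2 := H.inv_mem h1
    rwa [show (s * (d * s⁻¹ * d⁻¹))⁻¹ = d * s * d⁻¹ * s⁻¹ by group] at h2
  refine F.false_of_torus hone hH hb hz0 hz01 hz0H hd hdD hd1 hu0 hu0H fun g hg u hu huH hgu => ?_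
  by_contra hgM
  obtain ⟨s, hs, m, hm, rfl⟩ := F.cover g hgM
  set g := s * F.w * m with hg'
  have h1 : ∀ z ∈ F.Z, s * (F.w * z * F.w⁻¹) * s⁻¹ ∈ H := fun z hz => by
    have hz' := F.conj_Z_M (F.M.inv_mem hm) hz
    rw [inv_inv] at hz'
    have := H.mul_mem (H.mul_mem hg (hZH hz')) (H.inv_mem hg)
    rwa [hg', show s * F.w * m * (m⁻¹ * z * m) * (s * F.w * m)⁻¹ =
      s * (F.w * z * F.w⁻¹) * s⁻¹ by group] at this
  have h2 : ∀ z ∈ F.Z, u⁻¹ * s * (F.w * z * F.w⁻¹) * (u⁻¹ * s)⁻¹ ∈ H := fun z hz => by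
    have hz' := F.conj_Z_M (F.M.inv_mem hm) hz
    rw [inv_inv] at hz'
    have hz'' : u⁻¹ * (m⁻¹ * z * m) * u ∈ H := by
      rw [F.Z_comm u⁻¹ (F.S.inv_mem hu) _ hz', inv_mul_cancel_right]; exact hZH hz'
    have := H.mul_mem (H.mul_mem hgu hz'') (H.inv_mem hgu)
    rwa [hg', show u⁻¹ * (s * F.w * m) * u * (u⁻¹ * (m⁻¹ * z * m) * u) *
      (u⁻¹ * (s * F.w * m) * u)⁻¹ = u⁻¹ * s * (F.w * z * F.w⁻¹) * (u⁻¹ * s)⁻¹ by group] at this
  have h3 := key _ (F.S.mul_mem (F.S.inv_mem hu) hs) h2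
  have h4 := H.mul_mem h3 (H.inv_mem (key s hs h1))
  exact huH (by simpa using H.inv_mem h4)

theorem le_M : H ≤ F.M := by
  have hZH := F.Z_le_H hone hH hb hz0 hz01 hz0H
  intro h hh
  by_contra hM
  obtain ⟨s, hs, m, hm, rfl⟩ := F.cover h hM
  set H1 := H.comap (MulAut.conj s).toMonoidHom with hH1
  have hH1top : H1 ≠ ⊤ := fun e => hH (by
    refine eq_top_iff.2 fun x _ => ?_
    have : s⁻¹ * x * s ∈ H1 := by rw [e]; trivial
    have h' : s * (s⁻¹ * x * s) * s⁻¹ ∈ H := this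
    rwa [show s * (s⁻¹ * x * s) * s⁻¹ = x by group] at h')
  have hb1 : IsBinary X (X ⧸ H1) := hb.transfer (MulAut.conj s).symm fun x => by
    show s * (s⁻¹ * x * s) * s⁻¹ ∈ H ↔ _
    rw [show s * (s⁻¹ * x * s) * s⁻¹ = x by group]
  refine F.false_of_two hone hH1top hb1 hz0 hz01 (show s * z0 * s⁻¹ ∈ H by
    rw [F.Z_comm s hs z0 hz0, mul_inv_cancel_right]; exact hz0H) fun z hz => ?_
  show s * (F.w * z * F.w⁻¹) * s⁻¹ ∈ H
  have hz' := F.conj_Z_M (F.M.inv_mem hm) hz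
  rw [inv_inv] at hz'
  have := H.mul_mem (H.mul_mem hh (hZH hz')) (H.inv_mem hh)
  rwa [show s * F.w * m * (m⁻¹ * z * m) * (s * F.w * m)⁻¹ =
    s * (F.w * z * F.w⁻¹) * s⁻¹ by group] at this

theorem false_of_D {d : X} (hd : d ∈ H) (hdD : d ∈ F.D) (hd1 : d ≠ 1) : False := by
  have hHM := F.le_M hone hH hb hz0 hz01 hz0H
  by_cases hSH : F.S ≤ H
  swap
  · obtain ⟨u0, hu0, hu0H⟩ := SetLike.not_le_iff_exists.1 hSH
    exact F.false_of_torus hone hH hb hz0 hz01 hz0H hd hdD hd1 hu0 hu0H fun g hg _ _ _ _ => hHM hg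
  set x0 : X ⧸ H := ((1 : X) : X ⧸ H)
  set y : X ⧸ H := F.w • x0 with hy
  have hfix : ∀ {a b : X}, a • (b • x0) = b • x0 ↔ b⁻¹ * a * b ∈ H := fun {a b} => by
    rw [← smul_base_iff (H := H), mul_smul, mul_smul, inv_smul_eq_iff]
  have hdy : d • y = y := hfix.2 ((Subgroup.zpowers_le.2 hd) (F.w_zpowers d hdD))
  have hD_of : ∀ g : X, g • x0 = x0 → g • y = y → g ∈ F.D ∧ g ∈ H := fun g h1 h2 => by
    have hgH := smul_base_iff.1 h1
    exact ⟨F.inter g (hHM hgH) (hHM (hfix.1 h2)), hgH⟩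
  have hreg : ∀ a ∈ F.S, a • y = y → a = 1 := fun a ha h =>
    F.S_inter_D ha (F.inter a (F.S_le_M ha) (hHM (hfix.1 h)))
  -- every element of `H ∩ D` centralises `Z`
  have hcent : ∀ c ∈ H, c ∈ F.D → ∀ z ∈ F.Z, Commute c z := by
    intro c hcH hcD
    obtain ⟨g, hgy, hgE, hgu, hgv⟩ := hb.affine {x0} F.Z (y := y) (d := c) (w := z0)
      (hfix.2 ((Subgroup.zpowers_le.2 hcH) (F.w_zpowers c hcD)))
      (by rintro x rfl; exact smul_base_iff.2 hcH)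
      (fun a ha => F.conj_Z_M (F.D_le_M hcD) ha) hz0
      (fun a ha b hb' => by rw [F.Z_comm a (F.Z_le ha) b hb'])
    obtain ⟨hgD, -⟩ := hD_of g (hgE x0 rfl) hgy
    set u := c * z0 * c⁻¹ with hu
    have huZ : u ∈ F.Z := F.conj_Z_M (F.D_le_M hcD) hz0
    have huinv : u⁻¹ = u := inv_eq_of_mul_eq_one_right ((F.mem_Z u (F.Z_le huZ)).2 huZ)
    have e1 : g * u * g⁻¹ = u := by
      have h1 : u⁻¹ * (g * u * g⁻¹) ∈ F.Z := F.Z.mul_mem (F.Z.inv_mem huZ) (F.conj_Z_M (F.D_le_M hgD) huZ)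
      have h2 := hreg _ (F.Z_le h1) (by
        rw [mul_smul, mul_smul, mul_smul, inv_smul_eq_iff.2 hgy.symm, inv_smul_eq_iff]
        exact hgu)
      exact (inv_mul_eq_one.1 h2).symm
    set v := u * z0 with hv
    have hvZ : v ∈ F.Z := F.Z.mul_mem huZ hz0
    have e2 : g * v * g⁻¹ = c * v * c⁻¹ := by
      have h1 : (c * v * c⁻¹)⁻¹ * (g * v * g⁻¹) ∈ F.Z :=
        F.Z.mul_mem (F.Z.inv_mem (F.conj_Z_M (F.D_le_M hcD) hvZ)) (F.conj_Z_M (F.D_le_M hgD) hvZ)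
      have hcy : c • y = y := hfix.2 ((Subgroup.zpowers_le.2 hcH) (F.w_zpowers c hcD))
      have h2 := hreg _ (F.Z_le h1) (by
        rw [mul_smul, inv_smul_eq_iff, mul_smul (g * v), mul_smul (c * v),
          inv_smul_eq_iff.2 hgy.symm, inv_smul_eq_iff.2 hcy.symm, mul_smul g v]
        exact hgv)
      exact (inv_mul_eq_one.1 h2).symm
    have hgu1 : Commute g u := mul_inv_eq_iff_eq_mul.1 e1
    have hu1 : u ≠ 1 := fun e => hz01 (by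
      calc z0 = c⁻¹ * u * c := by rw [hu]; group
        _ = 1 := by rw [e]; group)
    have hg0 : g * z0 * g⁻¹ = z0 := mul_inv_eq_iff_eq_mul.2 (F.zfix g hgD u huZ hu1 hgu1 z0 hz0).eq
    have e3 : c * u * c⁻¹ = z0 := by
      have h3 : g * v * g⁻¹ = u * z0 := by
        rw [show g * v * g⁻¹ = (g * u * g⁻¹) * (g * z0 * g⁻¹) by rw [hv]; group, e1, hg0]
      have h4 : c * v * c⁻¹ = (c * u * c⁻¹) * u := by rw [hv, hu]; group
      rw [e2, h4, F.Z_comm u (F.Z_le huZ) z0 hz0] at h3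
      exact mul_right_cancel h3
    have hc2 : Commute (c * c) z0 := by
      refine mul_inv_eq_iff_eq_mul.1 ?_
      rw [show c * c * z0 * (c * c)⁻¹ = c * u * c⁻¹ by rw [hu]; group, e3]
    exact fun z hz => F.zfix c hcD z0 hz0 hz01 (F.D_sq_generates hcD hc2) z hz
  obtain ⟨s, hs, s', hs', z, hz, ⟨s₂, hs₂, k, he⟩, hne⟩ := F.central d hdD hd1 (hcent d hd hdD)
  have hbz : (F.w * z * F.w⁻¹) • y = y := hfix.2 (by
    rw [show F.w⁻¹ * (F.w * z * F.w⁻¹) * F.w = z by group]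
    exact F.Z_le_H hone hH hb hz0 hz01 hz0H hz)
  have hab : (s' * s⁻¹) • (s • y) = (F.w * z * F.w⁻¹) • (s • y) := by
    have h1 : (F.w⁻¹ * (s'⁻¹ * (F.w * z * F.w⁻¹) * s) * F.w) • x0 = x0 := smul_base_iff.2 (by
      rw [he]; exact H.mul_mem (hSH hs₂) (H.zpow_mem hd k))
    simp only [hy, smul_smul, inv_mul_cancel_right]
    conv_lhs => rw [← h1, smul_smul]
    congr 1; group
  obtain ⟨g, hg1, hg2, hg3⟩ := hb.triple
    (smul_base_iff.2 (H.mul_mem (hSH hs') (H.inv_mem (hSH hs)))) hbz hab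
  obtain ⟨hgD, hgH⟩ := hD_of g hg1 hg2
  rw [smul_smul (s' * s⁻¹), inv_mul_cancel_right] at hg3
  refine hne g hgD (hcent g hgH hgD) ?_
  have h1 : s'⁻¹ * (g * s * g⁻¹) ∈ F.S := F.S.mul_mem (F.S.inv_mem hs') (F.conj_S g hgD s hs)
  have h2 := hreg _ h1 (by
    rw [mul_smul, mul_smul, mul_smul, inv_smul_eq_iff.2 hg2.symm, inv_smul_eq_iff]
    exact hg3)
  exact (inv_mul_eq_one.1 h2).symm

theorem le_S : H ≤ F.S := by
  intro h hh
  obtain ⟨s, hs, c, hc, rfl⟩ := (F.mem_M h).1 (F.le_M hone hH hb hz0 hz01 hz0H hh)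
  by_cases hc1 : c = 1
  · rw [hc1, mul_one]; exact hs
  exfalso
  obtain ⟨x, hx, hxz⟩ := F.exists_conj hs hc hc1
  set H1 := H.comap (MulAut.conj x).toMonoidHom
  have hH1top : H1 ≠ ⊤ := fun e => hH (by
    refine eq_top_iff.2 fun g _ => ?_
    have : x⁻¹ * g * x ∈ H1 := by rw [e]; trivial
    have h' : x * (x⁻¹ * g * x) * x⁻¹ ∈ H := this
    rwa [show x * (x⁻¹ * g * x) * x⁻¹ = g by group] at h')
  have hb1 : IsBinary X (X ⧸ H1) := hb.transfer (MulAut.conj x).symm fun g => by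
    show x * (x⁻¹ * g * x) * x⁻¹ ∈ H ↔ _
    rw [show x * (x⁻¹ * g * x) * x⁻¹ = g by group]
  refine F.false_of_D hone hH1top hb1 hz0 hz01 (show x * z0 * x⁻¹ ∈ H by
    rw [F.Z_comm x hx z0 hz0, mul_inv_cancel_right]; exact hz0H) (show x * c * x⁻¹ ∈ H from ?_) hc hc1
  have := H.mul_mem (F.Z_le_H hone hH hb hz0 hz01 hz0H hxz) hh
  rwa [inv_mul_cancel_right] at this

/-- The stabiliser is `Z`. -/
theorem eq_Z : H = F.Z := by
  refine le_antisymm (fun h hh => ?_) (F.Z_le_H hone hH hb hz0 hz01 hz0H)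
  have hHS := F.le_S hone hH hb hz0 hz01 hz0H
  by_contra hhZ
  obtain ⟨g₁, g₂, b, h1, h2, hb1, hb2⟩ :=
    F.four h (hHS hh) hhZ H hh (F.Z_le_H hone hH hb hz0 hz01 hz0H)
  set x0 : X ⧸ H := ((1 : X) : X ⧸ H)
  have hfix : ∀ {a b : X}, a • (b • x0) = b • x0 ↔ b⁻¹ * a * b ∈ H := fun {a b} => by
    rw [← smul_base_iff (H := H), mul_smul, mul_smul, inv_smul_eq_iff]
  have htriv : ∀ g, g ∉ F.M → ∀ a ∈ H, g⁻¹ * a * g ∈ H → a = 1 := by
    intro g hg a ha ha'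
    by_contra ha1
    obtain ⟨v, hv, hvH, hvH'⟩ : ∃ v : X, orderOf v = 2 ∧ v ∈ H ∧ g⁻¹ * v * g ∈ H := by
      have hdvd : Even (orderOf a) := by
        obtain ⟨k, hk⟩ := F.isP ⟨a, hHS ha⟩
        have hd : orderOf a ∣ 2 ^ k := orderOf_dvd_of_pow_eq_one (by simpa using congrArg Subtype.val hk)
        obtain ⟨i, -, hi⟩ := (Nat.dvd_prime_pow Nat.prime_two).1 hd
        rcases i with _ | i
        · exact absurd (orderOf_eq_one_iff.1 (by rw [hi, pow_zero])) ha1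
        · rw [hi, pow_succ]; exact ⟨2 ^ i, by ring⟩
      obtain ⟨k, hk⟩ := exists_involution_pow hdvd
      refine ⟨a ^ k, hk, H.pow_mem ha k, ?_⟩
      have := H.pow_mem ha' k
      rwa [show (g⁻¹ * a * g) ^ k = g⁻¹ * a ^ k * g by
        simpa using conj_pow (i := k) (a := g⁻¹) (b := a)] at this
    have hvv : v * v = 1 := CfsgLib.Involution.Dihedral.mul_self hv
    have hvZ : g⁻¹ * v * g ∈ F.Z := (F.mem_Z _ (hHS hvH')).1 (by
      rw [show g⁻¹ * v * g * (g⁻¹ * v * g) = g⁻¹ * (v * v) * g by group, hvv]; group)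
    refine hg (F.mem_M_of_conj_Z hvZ (fun e => CfsgLib.Involution.Dihedral.ne_one hv ?_) ?_)
    · calc v = g * (g⁻¹ * v * g) * g⁻¹ := by group
        _ = 1 := by rw [e]; group
    · rw [show g * (g⁻¹ * v * g) * g⁻¹ = v by group]; exact F.S_le_M (hHS hvH)
  have hbfix : b • g₁ • x0 = g₁ • x0 := hfix.2 hb1
  have hbz : h • g₂ • x0 = b • g₂ • x0 := by
    have h3 : (h⁻¹ * b) • g₂ • x0 = g₂ • x0 := hfix.2 hb2
    rw [mul_smul, inv_smul_eq_iff] at h3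
    exact h3.symm
  obtain ⟨g, hg1, hg2, hg3⟩ := hb.triple (smul_base_iff.2 hh) hbfix hbz
  have hg : g = 1 := htriv g₁ h1 g (smul_base_iff.1 hg1) (hfix.1 hg2)
  rw [hg, one_smul] at hg3
  exact hhZ (htriv g₂ h2 h hh (hfix.1 hg3.symm) ▸ F.Z.one_mem)

end Binary

end Frame

end CfsgLib.Perm.BinaryOneClass
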