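import Cfsg.Agent.Lib.Involution.StronglyEmbedded
import Cfsg.Prelude.Def_EvenType

/-!
# Binary actions of groups with one class of involutions: the general part

Commuting involutions have the same fixed points in a binary action in which involutions fix
points; so the stabiliser of such a fixed point set is strongly embedded.
-/

set_option autoImplicit false
set_option linter.style.haveILetI false
set_option linter.unusedSectionVars false

namespace CfsgLib.Perm.BinaryOneClass

/-- Tuples which are pairwise in the same orbit are in the same orbit. -/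
def IsBinary (G Ω : Type*) [Group G] [MulAction G Ω] : Prop :=
  ∀ (n : ℕ) (I J : Fin n → Ω), 2 ≤ n →
    (∀ i j : Fin n, i ≠ j → ∃ g : G, g • I i = J i ∧ g • I j = J j) → ∃ g : G, ∀ i, g • I i = J i

section Action

variable {G Ω : Type*} [Group G] [MulAction G Ω]

/-- The definition for an arbitrary finite index set. -/
theorem IsBinary.extend (hb : IsBinary G Ω) {ι : Type*} [Finite ι] (I J : ι → Ω)
    (h : ∀ i j, ∃ g : G, g • I i = J i ∧ g • I j = J j) : ∃ g : G, ∀ i, g • I i = J i := by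
  rcases Nat.lt_or_ge (Nat.card ι) 2 with h2 | h2
  · haveI : Subsingleton ι := Finite.card_le_one_iff_subsingleton.1 (by omega)
    rcases isEmpty_or_nonempty ι with hι | ⟨⟨i⟩⟩
    · exact ⟨1, isEmptyElim⟩
    · obtain ⟨g, hg, -⟩ := h i i
      exact ⟨g, fun j => Subsingleton.elim i j ▸ hg⟩
  let e := Finite.equivFin ι
  obtain ⟨g, hg⟩ := hb (Nat.card ι) (fun k => I (e.symm k)) (fun k => J (e.symm k)) h2
    fun i j _ => h _ _
  exact ⟨g, fun i => by simpa using hg (e i)⟩

/-- A triple criterion. -/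
theorem IsBinary.triple (hb : IsBinary G Ω) {x y z : Ω} {a b : G} (ha : a • x = x) (hb' : b • y = y)
    (hab : a • z = b • z) : ∃ g : G, g • x = x ∧ g • y = y ∧ g • z = a • z := by
  obtain ⟨g, hg⟩ := hb.extend (ι := Fin 3) ![x, y, z] ![x, y, a • z] (by
    intro i j
    fin_cases i <;> fin_cases j <;>
      first
        | (refine ⟨1, ?_, ?_⟩ <;> simp; done)
        | (refine ⟨a, ?_, ?_⟩ <;> simp [ha]; done)
        | (refine ⟨b, ?_, ?_⟩ <;> simp [hb', hab]; done))
  exact ⟨g, hg 0, hg 1, hg 2⟩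

/-- The affine criterion: `d` fixes `y` and the further points, and normalises
`A`, which is commutative above the stabiliser of `y`. -/
theorem IsBinary.affine [Finite Ω] (hb : IsBinary G Ω) (E : Set Ω) {y : Ω} (A : Subgroup G) {d w : G}
    (hd : d • y = y) (hdE : ∀ x ∈ E, d • x = x)
    (hdA : ∀ a ∈ A, d * a * d⁻¹ ∈ A) (hw : w ∈ A)
    (hcomm : ∀ a ∈ A, ∀ b ∈ A, (a * b) • y = (b * a) • y) :
    ∃ g : G, g • y = y ∧ (∀ x ∈ E, g • x = x) ∧ g • ((d * w * d⁻¹) • y) = (d * w * d⁻¹) • y ∧
      g • ((d * w * d⁻¹ * w) • y) = (d * (d * w * d⁻¹ * w)) • y := by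
  set u := d * w * d⁻¹ with hu
  have huA : u ∈ A := hdA w hw
  have hduA : d * u * d⁻¹ ∈ A := hdA u huA
  set v := u * w with hv
  have hvA : v ∈ A := A.mul_mem huA hw
  let pts : E ⊕ Fin 3 → Ω := Sum.elim (fun x => x.1) ![y, u • y, v • y]
  let img : E ⊕ Fin 3 → Ω := Sum.elim (fun x => x.1) ![y, u • y, (d * v) • y]
  have h13 : ∀ x, pts x = y ∨ (∃ a ∈ A, pts x = a • y) ∨ pts x ∈ E := by
    rintro (x | i)
    · exact Or.inr (Or.inr x.2)
    · fin_cases i
      · exact Or.inl rfl
      · exact Or.inr (Or.inl ⟨u, huA, rfl⟩)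
      · exact Or.inr (Or.inl ⟨v, hvA, rfl⟩)
  -- the element matching the last two points
  have hg0 : (u * d * d * u⁻¹) • (u • y) = u • y ∧ (u * d * d * u⁻¹) • (v • y) = (d * v) • y := by
    constructor
    · rw [smul_smul, inv_mul_cancel_right]
      simp only [mul_smul, hd]
    · have e1 : (u * d * d * u⁻¹) * v = u * (d * u * d⁻¹) * (d * d) := by
        rw [hv, hu]; group
      have e2 : d * v = (d * u * d⁻¹) * u * d := by
        rw [hv, hu]; group
      rw [smul_smul, e1, e2, mul_smul, mul_smul (d * u * d⁻¹ * u), hd,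
        mul_smul d d, hd, hd, hcomm _ huA _ hduA]
  obtain ⟨g, hg⟩ := hb.extend pts img (by
    have case3 : ∀ k, ∃ g : G, g • pts (Sum.inr 2) = img (Sum.inr 2) ∧ g • pts k = img k := by
      rintro (x | i)
      · exact ⟨d, by simp [pts, img, mul_smul], by simp [pts, img, hdE _ x.2]⟩
      · fin_cases i
        · exact ⟨d, by simp [pts, img, mul_smul], by simp [pts, img, hd]⟩
        · exact ⟨u * d * d * u⁻¹, by simpa [pts, img] using hg0.2, by simpa [pts, img] using hg0.1⟩
        · exact ⟨d, by simp [pts, img, mul_smul], by simp [pts, img, mul_smul]⟩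
    intro i j
    by_cases hi : i = Sum.inr 2
    · subst hi; exact case3 j
    by_cases hj : j = Sum.inr 2
    · subst hj
      obtain ⟨g, h1, h2⟩ := case3 i
      exact ⟨g, h2, h1⟩
    refine ⟨1, ?_, ?_⟩
    · rcases i with x | i
      · simp [pts, img]
      · fin_cases i <;> simp_all [pts, img]
    · rcases j with x | i
      · simp [pts, img]
      · fin_cases i <;> simp_all [pts, img])
  refine ⟨g, hg (Sum.inr 0), fun x hx => hg (Sum.inl ⟨x, hx⟩), hg (Sum.inr 1), hg (Sum.inr 2)⟩

/-- The points fixed by an element. -/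
def fixSet (Ω : Type*) [MulAction G Ω] (t : G) : Set Ω := {x | t • x = x}

theorem fixSet_conj (g t : G) : fixSet Ω (g * t * g⁻¹) = (g • ·) '' fixSet Ω t := by
  ext x
  constructor
  · intro hx
    refine ⟨g⁻¹ • x, ?_, smul_inv_smul g x⟩
    have h : (g * t * g⁻¹) • x = x := hx
    show t • g⁻¹ • x = g⁻¹ • x
    rw [eq_inv_smul_iff]
    rw [mul_smul, mul_smul] at h
    exact h
  · rintro ⟨y, hy, rfl⟩
    show (g * t * g⁻¹) • g • y = g • y
    rw [mul_smul, inv_smul_smul, mul_smul, show t • y = y from hy]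

variable [Finite G] [Finite Ω] [FaithfulSMul G Ω]

theorem exists_involution_pow {g : G} (h : Even (orderOf g)) :
    ∃ k : ℕ, orderOf (g ^ k) = 2 := by
  obtain ⟨m, hm⟩ := h
  refine ⟨m, ?_⟩
  have hpos : 0 < orderOf g := orderOf_pos g
  rw [orderOf_pow' g (by omega : m ≠ 0), Nat.gcd_eq_right ⟨2, by omega⟩]
  exact Nat.div_eq_of_eq_mul_left (by omega) (by omega)

/-- Commuting involutions fix the same points. -/
theorem fixSet_eq_of_commute (hb : IsBinary G Ω)
    (hone : ∀ s t : G, orderOf s = 2 → orderOf t = 2 → IsConj s t)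
    {a b : G} (ha : orderOf a = 2) (hb2 : orderOf b = 2) (hab : Commute a b) :
    fixSet Ω a = fixSet Ω b := by
  classical
  by_cases hne : a = b
  · rw [hne]
  set c := a * b with hc
  have haa : a * a = 1 := by rw [← pow_two, ← ha, pow_orderOf_eq_one]
  have hbb : b * b = 1 := by rw [← pow_two, ← hb2, pow_orderOf_eq_one]
  have hc2 : orderOf c = 2 := by
    refine orderOf_eq_prime ?_ fun h => hne ?_
    · rw [hc, hab.mul_pow, pow_two, pow_two, haa, hbb, one_mul]
    · calc a = a * (b * b) := by rw [hbb, mul_one]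
        _ = a * b * b := by rw [mul_assoc]
        _ = b := by rw [show a * b = 1 from h, one_mul]
  have hcard : ∀ s t : G, orderOf s = 2 → orderOf t = 2 →
      (fixSet Ω s).ncard = (fixSet Ω t).ncard := by
    intro s t hs ht
    obtain ⟨g, hg⟩ := isConj_iff.1 (hone s t hs ht)
    rw [← hg, fixSet_conj, Set.ncard_image_of_injective _ (MulAction.injective g)]
  have hFb_of : ∀ x ∈ fixSet Ω a, b • x ≠ x → fixSet Ω b = fixSet Ω c := by
    intro x0 hx0 hmove
    let T : Set Ω := fixSet Ω a ∪ (fixSet Ω b ∪ fixSet Ω c)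
    let σ : Ω → Ω := fun x => if x ∈ fixSet Ω b ∪ fixSet Ω c then x else b • x
    have hσb : ∀ x ∈ fixSet Ω a, σ x = b • x := by
      intro x hx
      simp only [σ]
      split_ifs with h
      · rcases h with h | h
        · exact h.symm
        · have h' : (a * b) • x = x := h
          rw [hab.eq, mul_smul, show a • x = x from hx] at h'
          exact h'.symm
      · rfl
    have hσ1 : ∀ x ∈ fixSet Ω b ∪ fixSet Ω c, σ x = x := fun x hx => if_pos hx
    have hcb : ∀ x ∈ fixSet Ω a, c • x = b • x := fun x hx => by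
      rw [hc, hab.eq, mul_smul, show a • x = x from hx]
    obtain ⟨g, hg⟩ := hb.extend (fun x : T => x.1) (fun x : T => σ x.1) (by
      have key : ∀ x ∈ fixSet Ω a, ∀ y ∈ fixSet Ω b ∪ fixSet Ω c,
          ∃ g : G, g • x = σ x ∧ g • y = σ y := by
        intro x hx y hy
        rcases hy with hy | hy
        · exact ⟨b, (hσb x hx).symm, by rw [hσ1 y (Or.inl hy)]; exact hy⟩
        · exact ⟨c, by rw [hσb x hx, hcb x hx], by rw [hσ1 y (Or.inr hy)]; exact hy⟩
      rintro ⟨x, hx | hx⟩ ⟨y, hy | hy⟩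
      · exact ⟨b, (hσb x hx).symm, (hσb y hy).symm⟩
      · exact key x hx y hy
      · obtain ⟨g, h1, h2⟩ := key y hy x hx
        exact ⟨g, h2, h1⟩
      · exact ⟨1, by rw [one_smul, hσ1 x hx], by rw [one_smul, hσ1 y hy]⟩)
    have hgbc : ∀ x ∈ fixSet Ω b ∪ fixSet Ω c, g • x = x := fun x hx => by
      rw [hg ⟨x, Or.inr hx⟩, hσ1 x hx]
    have hga : ∀ x ∈ fixSet Ω a, g • x = b • x := fun x hx => by
      rw [hg ⟨x, Or.inl hx⟩, hσb x hx]
    have hstab : ∀ x ∈ fixSet Ω a, b • x ∈ fixSet Ω a := fun x hx => by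
      show a • b • x = b • x
      rw [smul_smul, hab.eq, mul_smul, show a • x = x from hx]
    have hgpow : ∀ k : ℕ, ∀ x ∈ fixSet Ω a, g ^ k • x = b ^ k • x := by
      intro k
      induction k with
      | zero => simp
      | succ k ih =>
        intro x hx
        rw [pow_succ, mul_smul, hga x hx, ih _ (hstab x hx), ← mul_smul, ← pow_succ]
    have heven : Even (orderOf g) := by
      by_contra hodd
      obtain ⟨k, hk⟩ := Nat.not_even_iff_odd.1 hodd
      have h1 := hgpow (orderOf g) x0 hx0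
      rw [pow_orderOf_eq_one, one_smul, hk, pow_succ, pow_mul, pow_two, hbb, one_pow, one_mul] at h1
      exact hmove h1.symm
    obtain ⟨k, hk⟩ := exists_involution_pow heven
    have hsub : fixSet Ω b ∪ fixSet Ω c ⊆ fixSet Ω (g ^ k) := fun x hx => by
      show g ^ k • x = x
      exact smul_pow_fixed (hgbc x hx) k
    have h1 := Set.eq_of_subset_of_ncard_le (Set.subset_union_left.trans hsub)
      (hcard _ _ hk hb2).le (Set.toFinite _)
    have h2 := Set.eq_of_subset_of_ncard_le (Set.subset_union_right.trans hsub)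
      (hcard _ _ hk hc2).le (Set.toFinite _)
    exact h1.trans h2.symm
  by_contra hne'
  obtain ⟨x, hx, hxb⟩ : ∃ x ∈ fixSet Ω a, b • x ≠ x := by
    by_contra hall
    push Not at hall
    exact hne' (Set.eq_of_subset_of_ncard_le (fun x hx => hall x hx) (hcard _ _ hb2 ha).le
      (Set.toFinite _))
  have hbc := hFb_of x hx hxb
  have hle : fixSet Ω b ⊆ fixSet Ω a := fun y hy => by
    have h' : (a * b) • y = y := (hbc ▸ hy : y ∈ fixSet Ω c)
    rwa [mul_smul, show b • y = y from hy] at h'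
  exact hne' (Set.eq_of_subset_of_ncard_le hle (hcard _ _ ha hb2).le (Set.toFinite _)).symm
where
  smul_pow_fixed {g : G} {x : Ω} (h : g • x = x) : ∀ k : ℕ, g ^ k • x = x
    | 0 => by simp
    | k + 1 => by rw [pow_succ, mul_smul, h, smul_pow_fixed h k]

end Action

section Cosets

variable {G : Type*} [Group G] {H : Subgroup G}

theorem smul_base_iff {h : G} : h • ((1 : G) : G ⧸ H) = ((1 : G) : G ⧸ H) ↔ h ∈ H := by
  rw [MulAction.Quotient.smul_mk, smul_eq_mul, mul_one, QuotientGroup.eq, mul_one, H.inv_mem_iff]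

/-- An elementary abelian subgroup containing all involutions commuting with one of its own gives a
binary action. -/
theorem isBinary_of_closed (hexp : ∀ h ∈ H, h * h = 1)
    (hcl : ∀ h ∈ H, h ≠ 1 → ∀ u : G, orderOf u = 2 → Commute u h → u ∈ H) :
    IsBinary G (G ⧸ H) := by
  have hcomm : ∀ h ∈ H, ∀ k ∈ H, Commute h k := fun h hh k hk => by
    have h1 := hexp _ (H.mul_mem hh hk)
    have e1 : h⁻¹ = h := inv_eq_of_mul_eq_one_right (hexp h hh)
    have e2 : k⁻¹ = k := inv_eq_of_mul_eq_one_right (hexp k hk)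
    have e3 := inv_eq_of_mul_eq_one_right h1
    rw [mul_inv_rev, e1, e2] at e3
    exact e3.symm
  have hstab : ∀ (g h : G), h • ((g : G) : G ⧸ H) = g ↔ g⁻¹ * h * g ∈ H :=
    fun g h => CfsgLib.Involution.SE.fixes_mk_iff
  have hfixexp : ∀ (z : G ⧸ H) (h : G), h • z = z → h * h = 1 := by
    intro z h hz
    induction z using QuotientGroup.induction_on with
    | H g =>
      have h2 := hexp _ ((hstab g h).1 hz)
      calc h * h = g * ((g⁻¹ * h * g) * (g⁻¹ * h * g)) * g⁻¹ := by group
        _ = 1 := by rw [h2]; group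
  have hfixcl : ∀ (z : G ⧸ H) (h u : G), h • z = z → h ≠ 1 → u * u = 1 → Commute u h → u • z = z := by
    intro z h u hz h1 hu2 huh
    induction z using QuotientGroup.induction_on with
    | H g =>
      rw [hstab] at hz ⊢
      by_cases hu1 : u = 1
      · rw [hu1]; simpa using H.one_mem
      refine hcl _ hz (fun e => h1 ?_) _ ?_ ?_
      · calc h = g * (g⁻¹ * h * g) * g⁻¹ := by group
          _ = 1 := by rw [e]; group
      · refine orderOf_eq_prime ?_ fun e => hu1 ?_
        · calc (g⁻¹ * u * g) ^ 2 = g⁻¹ * (u * u) * g := by rw [pow_two]; group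
            _ = 1 := by rw [hu2]; group
        · calc u = g * (g⁻¹ * u * g) * g⁻¹ := by group
            _ = 1 := by rw [e]; group
      · show g⁻¹ * u * g * (g⁻¹ * h * g) = g⁻¹ * h * g * (g⁻¹ * u * g)
        calc g⁻¹ * u * g * (g⁻¹ * h * g) = g⁻¹ * (u * h) * g := by group
          _ = g⁻¹ * (h * u) * g := by rw [huh.eq]
          _ = _ := by group
  -- two points with a common nontrivial stabiliser have the same stabiliser
  have hsame : ∀ (x y : G ⧸ H) (v : G), v • x = x → v • y = y → v ≠ 1 →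
      ∀ h : G, h • x = x → h • y = y := by
    intro x y v hvx hvy hv1 h hhx
    have hc : Commute h v := by
      induction x using QuotientGroup.induction_on with
      | H g =>
        have h1 := hcomm _ ((hstab g h).1 hhx) _ ((hstab g v).1 hvx)
        show h * v = v * h
        calc h * v = g * ((g⁻¹ * h * g) * (g⁻¹ * v * g)) * g⁻¹ := by group
          _ = g * ((g⁻¹ * v * g) * (g⁻¹ * h * g)) * g⁻¹ := by rw [h1.eq]
          _ = v * h := by group
    exact hfixcl y v h hvy hv1 (hfixexp x h hhx) hc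
  intro n I J hn hpair
  obtain ⟨i0⟩ : Nonempty (Fin n) := ⟨⟨0, by omega⟩⟩
  have hpair' : ∀ i j, ∃ g : G, g • I i = J i ∧ g • I j = J j := by
    intro i j
    by_cases h : i = j
    · subst h
      obtain ⟨k, hk⟩ : ∃ k : Fin n, k ≠ i := by
        haveI : Nontrivial (Fin n) := Fin.nontrivial_iff_two_le.2 hn
        exact exists_ne i
      obtain ⟨g, h1, -⟩ := hpair i k hk.symm
      exact ⟨g, h1, h1⟩
    · exact hpair i j h
  by_cases hall : ∀ k, ∀ h : G, h • I i0 = I i0 → h • I k = I k
  · obtain ⟨g0, hg0, -⟩ := hpair' i0 i0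
    refine ⟨g0, fun k => ?_⟩
    obtain ⟨g, h1, h2⟩ := hpair' i0 k
    have h3 := hall k (g⁻¹ * g0) (by rw [mul_smul, hg0, inv_smul_eq_iff, h1])
    rw [mul_smul, inv_smul_eq_iff] at h3
    rw [h3, h2]
  simp only [not_forall] at hall
  obtain ⟨k, h0, hh0, hk0⟩ := hall
  obtain ⟨g, hgi, hgk⟩ := hpair' i0 k
  refine ⟨g, fun m => ?_⟩
  obtain ⟨g1, h1i, h1m⟩ := hpair' i0 m
  obtain ⟨g2, h2k, h2m⟩ := hpair' k m
  have ha : (g⁻¹ * g1) • I i0 = I i0 := by rw [mul_smul, h1i, ← hgi, inv_smul_smul]
  have hb : (g⁻¹ * g2) • I k = I k := by rw [mul_smul, h2k, ← hgk, inv_smul_smul]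
  set a := g⁻¹ * g1 with hadef
  set b := g⁻¹ * g2 with hbdef
  have hab : a • I m = b • I m := by rw [hadef, hbdef, mul_smul, mul_smul, h1m, h2m]
  have hsuff : a • I m = I m := by
    set c := a⁻¹ * b with hcdef
    have hc : c • I m = I m := by rw [hcdef, mul_smul, ← hab, inv_smul_smul]
    have haa := hfixexp _ _ ha
    have hbb := hfixexp _ _ hb
    have hcc := hfixexp _ _ hc
    by_cases hb1 : b = 1
    · rw [hab, hb1, one_smul]
    by_cases ha1 : a = 1
    · rw [ha1, one_smul]
    have e1 : a⁻¹ = a := inv_eq_of_mul_eq_one_right haa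
    have e2 : b⁻¹ = b := inv_eq_of_mul_eq_one_right hbb
    have hcom : Commute b a := by
      have e3 := inv_eq_of_mul_eq_one_right hcc
      rw [hcdef, mul_inv_rev, inv_inv, e2, e1] at e3
      exact e3
    exact absurd (hsame (I i0) (I k) b (hfixcl _ a b ha ha1 hbb hcom) hb hb1 h0 hh0) hk0
  rw [← h1m]
  rw [hadef, mul_smul, inv_smul_eq_iff] at hsuff
  exact hsuff.symm

end Cosets

section StronglyEmbedded

variable {G : Type*} [Group G] [Finite G] {H : Subgroup G}

/-- The stabiliser of the fixed points of an involution. -/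
def fixStab (H : Subgroup G) (t : G) : Subgroup G where
  carrier := {g | (g • ·) '' fixSet (G ⧸ H) t = fixSet (G ⧸ H) t}
  one_mem' := by simp
  mul_mem' {a b} ha hb := by
    simp only [Set.mem_setOf_eq] at ha hb ⊢
    conv_rhs => rw [← ha, ← hb]
    rw [Set.image_image]
    simp [mul_smul]
  inv_mem' {a} ha := by
    simp only [Set.mem_setOf_eq] at ha ⊢
    conv_lhs => rw [← ha]
    rw [Set.image_image]
    simp

theorem mem_fixStab {t g : G} :
    g ∈ fixStab H t ↔ fixSet (G ⧸ H) (g * t * g⁻¹) = fixSet (G ⧸ H) t := by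
  rw [fixSet_conj]; rfl

theorem faithful_of_ne_top [IsSimpleGroup G] (hH : H ≠ ⊤) : FaithfulSMul G (G ⧸ H) := by
  refine ⟨fun {a b} hab => ?_⟩
  have hker : a⁻¹ * b ∈ H.normalCore := by
    rw [H.normalCore_eq_ker, MonoidHom.mem_ker]
    refine Equiv.ext fun z => ?_
    show (a⁻¹ * b) • z = z
    rw [mul_smul, ← hab z, inv_smul_smul]
  rcases IsSimpleGroup.eq_bot_or_eq_top_of_normal H.normalCore inferInstance with h | h
  · rw [h, Subgroup.mem_bot] at hker
    exact inv_mul_eq_one.1 hker
  · exact absurd (top_le_iff.1 (h ▸ H.normalCore_le)) hH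

variable [IsSimpleGroup G] (hone : ∀ s t : G, orderOf s = 2 → orderOf t = 2 → IsConj s t)
  (hH : H ≠ ⊤) (hb : IsBinary G (G ⧸ H)) {t0 : G} (ht0 : orderOf t0 = 2) (ht0H : t0 ∈ H)

include hone hH hb

theorem eq_of_commute {a b : G} (ha : orderOf a = 2) (hb2 : orderOf b = 2) (hab : Commute a b) :
    fixSet (G ⧸ H) a = fixSet (G ⧸ H) b :=
  haveI := faithful_of_ne_top hH
  fixSet_eq_of_commute hb hone ha hb2 hab

/-- Involutions commuting with involutions of `H` lie in `H`. -/
theorem mem_of_commute {h u : G} (hh : h ∈ H) (h2 : orderOf h = 2) (hu : orderOf u = 2)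
    (huh : Commute u h) : u ∈ H := by
  have e := eq_of_commute hone hH hb hu h2 huh
  have h1 : ((1 : G) : G ⧸ H) ∈ fixSet (G ⧸ H) h := smul_base_iff.2 hh
  rw [← e] at h1
  exact smul_base_iff.1 h1

include ht0 ht0H

/-- An involution lies in the stabiliser exactly if it has the same fixed points. -/
theorem fix_eq_of_mem_fixStab {v : G} (hv : orderOf v = 2) (hvM : v ∈ fixStab H t0) :
    fixSet (G ⧸ H) v = fixSet (G ⧸ H) t0 := by
  rcases Nat.even_or_odd (orderOf (v * t0)) with heven | hodd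
  · set w := (v * t0) ^ (orderOf (v * t0) / 2)
    have hw := CfsgLib.Involution.Dihedral.half_orderOf heven
    rw [← eq_of_commute hone hH hb hw hv
        (CfsgLib.Involution.Dihedral.half_commute_left hv ht0 heven),
      eq_of_commute hone hH hb hw ht0 (CfsgLib.Involution.Dihedral.half_commute_right hv ht0 heven)]
  · obtain ⟨d, hd, hdv⟩ := CfsgLib.Involution.Dihedral.exists_conj_of_odd hv ht0 hodd
    have ht0M : t0 ∈ fixStab H t0 := mem_fixStab.2 (by rw [mul_inv_cancel_right])
    have hdM : d ∈ fixStab H t0 :=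
      Subgroup.zpowers_le.2 ((fixStab H t0).mul_mem hvM ht0M) hd
    have h1 := mem_fixStab.1 ((fixStab H t0).inv_mem hdM)
    rwa [inv_inv, show d⁻¹ * t0 * d = v by rw [← hdv]; group] at h1

/-- The stabiliser of a fixed point set is strongly embedded. -/
theorem fixStab_stronglyEmbedded : Cfsg.IsStronglyEmbedded (fixStab H t0) := by
  have ht0M : t0 ∈ fixStab H t0 := mem_fixStab.2 (by rw [mul_inv_cancel_right])
  refine ⟨fun htop => ?_, CfsgLib.Involution.Basic.even_of_involution_mem _ ht0M ht0, fun g hg => ?_⟩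
  · haveI := faithful_of_ne_top hH
    have hall : ∀ z : G ⧸ H, z ∈ fixSet (G ⧸ H) t0 := by
      intro z
      induction z using QuotientGroup.induction_on with
      | H g =>
        have h1 : g ∈ fixStab H t0 := by rw [htop]; trivial
        have h2 : ((1 : G) : G ⧸ H) ∈ fixSet (G ⧸ H) t0 := smul_base_iff.2 ht0H
        have h3 : (g • ·) '' fixSet (G ⧸ H) t0 = fixSet (G ⧸ H) t0 := h1
        rw [← h3]
        exact ⟨_, h2, by simp [MulAction.Quotient.smul_mk]⟩
    exact CfsgLib.Involution.Dihedral.ne_one ht0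
      (FaithfulSMul.eq_of_smul_eq_smul (α := G ⧸ H) fun z => by rw [one_smul]; exact hall z)
  · rw [← Nat.not_even_iff_odd]
    intro heven
    obtain ⟨v, ⟨hv1, hv2⟩, hv⟩ := CfsgLib.Involution.Basic.exists_involution_of_even _ heven
    obtain ⟨v', hv', rfl⟩ := hv2
    have hv'2 : orderOf v' = 2 := by
      rw [← CfsgLib.Involution.Dihedral.orderOf_conj g v']
      exact hv
    have e1 := fix_eq_of_mem_fixStab hone hH hb ht0 ht0H hv hv1
    have e2 := fix_eq_of_mem_fixStab hone hH hb ht0 ht0H hv'2 hv'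
    refine hg ?_
    show (g • ·) '' fixSet (G ⧸ H) t0 = fixSet (G ⧸ H) t0
    conv_lhs => rw [← e2, ← fixSet_conj]
    exact e1

theorem fixStab_stronglyPEmbedded : Cfsg.IsStronglyPEmbedded 2 (fixStab H t0) := by
  have hse := fixStab_stronglyEmbedded hone hH hb ht0 ht0H
  have hdvd : 2 ∣ Nat.card G := ht0 ▸ orderOf_dvd_natCard t0
  refine ⟨hdvd, hse.1, ?_⟩
  have hodd := CfsgLib.Involution.SE.odd_index hse
  haveI := Fact.mk Nat.prime_two
  obtain ⟨P⟩ : Nonempty (Sylow 2 (fixStab H t0)) := inferInstance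
  have hP : ((P : Subgroup (fixStab H t0)).map (fixStab H t0).subtype).index % 2 = 1 := by
    rw [Subgroup.index_map_subtype, Nat.mul_mod]
    have h1 : (P : Subgroup (fixStab H t0)).index % 2 = 1 :=
      Nat.two_dvd_ne_zero.1 P.not_dvd_index
    have h2 : (fixStab H t0).index % 2 = 1 := Nat.odd_iff.1 hodd
    rw [h1, h2]
  let Q : Sylow 2 G := ((P.isPGroup').map (fixStab H t0).subtype).toSylow
    (by rw [Nat.two_dvd_ne_zero]; exact hP)
  refine ⟨Q, iSup_le ?_⟩
  rintro ⟨R, hR, hrank⟩
  intro g hg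
  obtain ⟨x, hx, hx1, hxR⟩ : ∃ x : G, x ^ 2 = 1 ∧ x ≠ 1 ∧ x ∈ R := by
    simp only [Cfsg.PRankLE, not_forall] at hrank
    obtain ⟨A, -, hA2, hAc⟩ := hrank
    obtain ⟨a, ha, ha1⟩ : ∃ a ∈ A, a ≠ 1 := (Subgroup.bot_or_exists_ne_one A).resolve_left
      fun e => hAc (by rw [e]; simp)
    exact ⟨a.1, by simpa using congrArg Subtype.val (hA2 a ha),
      fun e => ha1 (Subtype.ext e), a.2⟩
  have hxM : x ∈ fixStab H t0 := Subgroup.map_subtype_le _ (hR hxR)
  have hgx : g * x * g⁻¹ ∈ fixStab H t0 :=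
    Subgroup.map_subtype_le _ (hR ((Subgroup.mem_normalizer_iff.1 hg x).1 hxR))
  exact CfsgLib.Involution.SE.mem_of_conj_mem hse hxM (orderOf_eq_prime hx hx1) hgx

end StronglyEmbedded

end CfsgLib.Perm.BinaryOneClass
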